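import Mathlib.RingTheory.IntegralClosure.IsIntegralClosure.Basic
import Mathlib.RingTheory.IntegralClosure.IsIntegralClosure.Defs
import Mathlib.RingTheory.Localization.Away.Basic
import Mathlib.RingTheory.Localization.Integer
import Mathlib.RingTheory.Noetherian.Basic
import Mathlib.Algebra.Polynomial.Inductions
import Mathlib.RingTheory.Adjoin.Polynomial.Basic

/-!
# A function with prescribed behaviour at a puncture

`C` is a ring, `B = C[1/s]`, and `A → B` is a second ring such that `B` is generated by `C` and `A`, with `A` integral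
over `k[t]`.  Near the zero set of `s`, high powers of `1/t` extend to functions on `C` divisible by high powers of `s`.
-/

set_option autoImplicit false

open Polynomial

namespace Groth.Agent.CStk17.CurveScheme

variable {C B : Type*} [CommRing C] [CommRing B] [Algebra C B]

theorem exists_poly {k A : Type*} [CommRing k] [CommRing A] {kA : k →+* A} {kC : k →+* C} (s : C)
    [IsLocalization.Away s B] (ι : A →+* B) (hk : ι.comp kA = (algebraMap C B).comp kC)
    (hgen : Subring.closure (Set.range (algebraMap C B) ∪ Set.range ι) = ⊤) (t : A)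
    (hint : ∀ a : A, (Polynomial.eval₂RingHom kA t).IsIntegralElem a) :
    ∃ q : C[X], algebraMap C B s * q.eval₂ (algebraMap C B) (ι t) = 1 := by
  let E : C[X] →+* B := Polynomial.eval₂RingHom (algebraMap C B) (ι t)
  algebraize [E]
  have hall : ∀ y : B, IsIntegral C[X] y := fun y => by
    have hle : Subring.closure (Set.range (algebraMap C B) ∪ Set.range ι) ≤
        (integralClosure C[X] B).toSubring := by
      rw [Subring.closure_le]
      rintro _ (⟨c, rfl⟩ | ⟨a, rfl⟩)
      · show IsIntegral C[X] (algebraMap C B c)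
        have h : algebraMap C B c = algebraMap C[X] B (Polynomial.C c) :=
          (Polynomial.eval₂_C (algebraMap C B) (ι t)).symm
        rw [h]
        exact isIntegral_algebraMap
      · show E.IsIntegralElem (ι a)
        obtain ⟨p, hp, h0⟩ := hint a
        refine ⟨p.map (Polynomial.mapRingHom kC), hp.map _, ?_⟩
        rw [Polynomial.eval₂_map]
        have he : E.comp (Polynomial.mapRingHom kC) = ι.comp (Polynomial.eval₂RingHom kA t) := by
          refine Polynomial.ringHom_ext (fun c => ?_) ?_
          · simp only [E, RingHom.comp_apply, Polynomial.coe_mapRingHom, Polynomial.map_C,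
              Polynomial.coe_eval₂RingHom, Polynomial.eval₂_C]
            exact (congrArg (fun f : k →+* B => f c) hk).symm
          · simp [E]
        rw [he, ← Polynomial.hom_eval₂, h0, map_zero]
    exact hle (hgen ▸ Subring.mem_top y)
  obtain ⟨P, hP, h0⟩ := hall (IsLocalization.Away.invSelf s)
  have hsz : algebraMap C B s * IsLocalization.Away.invSelf s = 1 := IsLocalization.Away.mul_invSelf s
  let n := P.natDegree
  change Polynomial.eval₂ E _ P = 0 at h0
  rw [Polynomial.eval₂_eq_sum_range, Finset.sum_range_succ, Polynomial.Monic.coeff_natDegree hP, map_one,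
    one_mul] at h0
  have h1 : algebraMap C B s ^ n * IsLocalization.Away.invSelf s ^ n = 1 := by rw [← mul_pow, hsz, one_pow]
  have h2 := congrArg (fun x => algebraMap C B s ^ n * x) h0
  simp only [mul_add, Finset.mul_sum, mul_zero] at h2
  rw [h1] at h2
  refine ⟨-∑ i ∈ Finset.range n, Polynomial.C (s ^ (n - 1 - i)) * P.coeff i, ?_⟩
  rw [Polynomial.eval₂_neg, Polynomial.eval₂_finsetSum, mul_neg, Finset.mul_sum]
  rw [eq_comm, eq_neg_iff_add_eq_zero, add_comm, ← h2]
  congr 1
  refine Finset.sum_congr rfl fun i hi => ?_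
  rw [Finset.mem_range] at hi
  rw [Polynomial.eval₂_mul, Polynomial.eval₂_C, map_pow]
  show algebraMap C B s * (algebraMap C B s ^ (n - 1 - i) * E (P.coeff i)) = _
  have hn : n = (n - 1 - i + 1) + i := by omega
  have hs : algebraMap C B s ^ n * IsLocalization.Away.invSelf s ^ i = algebraMap C B s ^ (n - 1 - i + 1) := by
    conv_lhs => rw [hn, pow_add, mul_assoc, ← mul_pow, hsz, one_pow, mul_one]
  rw [mul_comm (E (P.coeff i)) _, ← mul_assoc (algebraMap C B s ^ n), hs, ← mul_assoc, ← pow_succ']

theorem exists_pow (s : C) [IsLocalization.Away s B] (τ : B) (q : C[X])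
    (hq : algebraMap C B s * q.eval₂ (algebraMap C B) τ = 1) (hu : IsUnit (1 - s * q.coeff 0)) :
    ∃ z : B, z * τ = 1 ∧ ∀ M : ℕ, ∃ m₀ : ℕ, ∀ m, m₀ ≤ m → ∃ c : C, algebraMap C B (s ^ M * c) = z ^ m := by
  obtain ⟨g, hg⟩ := hu.exists_left_inv
  let σ := algebraMap C B s
  let p := q.divX
  let z : B := algebraMap C B g * σ * p.eval₂ (algebraMap C B) τ
  have hzτ : z * τ = 1 := by
    have e := congrArg (Polynomial.eval₂ (algebraMap C B) τ) (Polynomial.divX_mul_X_add q)
    simp only [Polynomial.eval₂_add, Polynomial.eval₂_mul, Polynomial.eval₂_X, Polynomial.eval₂_C] at e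
    rw [← e, mul_add] at hq
    have h2 : σ * (p.eval₂ (algebraMap C B) τ * τ) = algebraMap C B (1 - s * q.coeff 0) := by
      rw [map_sub, map_one, map_mul]
      exact eq_sub_of_add_eq hq
    calc z * τ = algebraMap C B g * (σ * (p.eval₂ (algebraMap C B) τ * τ)) := by simp only [z]; ring
      _ = 1 := by rw [h2, ← map_mul, hg, map_one]
  let d := p.natDegree + 1
  let r : C[X] := ∑ i ∈ Finset.range d, Polynomial.C (g * p.coeff i) * Polynomial.X ^ (d - i)
  have hr : ∀ x, r.eval₂ (algebraMap C B) x = ∑ i ∈ Finset.range d, algebraMap C B (g * p.coeff i) * x ^ (d - i) :=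
    fun x => by simp only [r, Polynomial.eval₂_finsetSum, Polynomial.eval₂_mul, Polynomial.eval₂_C,
      Polynomial.eval₂_pow, Polynomial.eval₂_X]
  have hzd : z ^ (d + 1) = σ * r.eval₂ (algebraMap C B) z := by
    have hz1 : z = algebraMap C B g * σ * ∑ i ∈ Finset.range d, algebraMap C B (p.coeff i) * τ ^ i := by
      simp only [z, d]
      rw [Polynomial.eval₂_eq_sum_range]
    rw [hr, pow_succ']
    conv_lhs => arg 1; rw [hz1]
    rw [Finset.mul_sum, Finset.sum_mul, Finset.mul_sum]
    refine Finset.sum_congr rfl fun i hi => ?_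
    rw [Finset.mem_range] at hi
    have : τ ^ i * z ^ d = z ^ (d - i) := by
      conv_lhs => rw [show d = i + (d - i) by omega, pow_add, ← mul_assoc, ← mul_pow, mul_comm τ z, hzτ, one_pow,
        one_mul]
    rw [map_mul]
    calc algebraMap C B g * σ * (algebraMap C B (p.coeff i) * τ ^ i) * z ^ d
        = σ * (algebraMap C B g * algebraMap C B (p.coeff i) * (τ ^ i * z ^ d)) := by ring
      _ = _ := by rw [this]
  have hint : IsIntegral C z := by
    refine ⟨Polynomial.X ^ (d + 1) - Polynomial.C s * r, Polynomial.monic_X_pow_sub ?_, ?_⟩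
    · refine lt_of_le_of_lt ?_ (show ((d : ℕ) : WithBot ℕ) < ((d + 1 : ℕ) : WithBot ℕ) by exact_mod_cast Nat.lt_succ_self d)
      refine ((Polynomial.degree_mul_le _ _).trans (add_le_add Polynomial.degree_C_le le_rfl)).trans ?_
      rw [zero_add]
      refine (Polynomial.degree_sum_le _ _).trans (Finset.sup_le fun i _ => ?_)
      exact (Polynomial.degree_C_mul_X_pow_le _ _).trans (WithBot.coe_le_coe.2 (Nat.sub_le d i))
    · rw [Polynomial.eval₂_sub, Polynomial.eval₂_pow, Polynomial.eval₂_X, Polynomial.eval₂_mul,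
        Polynomial.eval₂_C, hzd, sub_self]
  let D := Algebra.adjoin C ({z} : Set B)
  obtain ⟨G, hG⟩ := IsIntegral.fg_adjoin_singleton hint
  obtain ⟨⟨b, N, rfl⟩, hN⟩ := IsLocalization.exist_integer_multiples_of_finset (Submonoid.powers s) G
  have hD : ∀ y ∈ D, ∃ c, algebraMap C B c = σ ^ N * y := fun y hy => by
    have hy' : y ∈ Submodule.span C (G : Set B) := hG ▸ (show y ∈ Subalgebra.toSubmodule D from hy)
    clear hy
    induction hy' using Submodule.span_induction with
    | mem x hx =>
      obtain ⟨c, hc⟩ := hN x hx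
      exact ⟨c, hc.trans (by rw [Algebra.smul_def, map_pow])⟩
    | zero => exact ⟨0, by simp⟩
    | add x y _ _ hx hy =>
      obtain ⟨c, hc⟩ := hx
      obtain ⟨c', hc'⟩ := hy
      exact ⟨c + c', by rw [map_add, hc, hc', mul_add]⟩
    | smul a x _ hx =>
      obtain ⟨c, hc⟩ := hx
      exact ⟨a * c, by rw [map_mul, hc, Algebra.smul_def]; ring⟩
  have hw : r.eval₂ (algebraMap C B) z ∈ D := by
    rw [hr]
    exact D.sum_mem fun i _ => D.mul_mem (D.algebraMap_mem _) (D.pow_mem (Algebra.self_mem_adjoin_singleton C z) _)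
  refine ⟨z, hzτ, fun M => ⟨(d + 1) * (M + N), fun m hm => ?_⟩⟩
  obtain ⟨c, hc⟩ := hD (r.eval₂ (algebraMap C B) z ^ (M + N) * z ^ (m - (d + 1) * (M + N)))
    (D.mul_mem (D.pow_mem hw _) (D.pow_mem (Algebra.self_mem_adjoin_singleton C z) _))
  refine ⟨c, ?_⟩
  rw [map_mul, map_pow, hc]
  conv_rhs => rw [show m = (d + 1) * (M + N) + (m - (d + 1) * (M + N)) by omega, pow_add, pow_mul, hzd, mul_pow]
  simp only [σ]
  ring

/-- In a noetherian ring the `σ`-power torsion is killed by a single power. -/
theorem exists_torsion_bound (R : Type*) [CommRing R] [IsNoetherianRing R] (σ : R) :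
    ∃ L : ℕ, ∀ (n : ℕ) (x : R), σ ^ n * x = 0 → σ ^ L * x = 0 := by
  let K : ℕ →o Submodule R R :=
    { toFun := fun n => LinearMap.ker (LinearMap.lsmul R R (σ ^ n))
      monotone' := fun i j hij x hx => by
        simp only [LinearMap.mem_ker, LinearMap.lsmul_apply, smul_eq_mul] at hx ⊢
        rw [← Nat.sub_add_cancel hij, pow_add, mul_assoc, hx, mul_zero] }
  obtain ⟨L, hL⟩ := monotone_stabilizes_iff_noetherian.2 inferInstance K
  refine ⟨L, fun n x hx => ?_⟩
  rcases le_total n L with h | h
  · exact (K.monotone h) hx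
  · rw [show (σ ^ L * x = 0) ↔ x ∈ K L from Iff.rfl, hL n h]
    exact hx

/-- An element divisible by a high power of `σ` and vanishing where `σ` is invertible is zero. -/
theorem eq_zero_of_away {R R' : Type*} [CommRing R] [CommRing R'] [Algebra R R'] (σ : R)
    [IsLocalization.Away σ R'] {L : ℕ} (hL : ∀ (n : ℕ) (x : R), σ ^ n * x = 0 → σ ^ L * x = 0) {x : R}
    (hx : ∃ r, x = σ ^ L * r) (h0 : algebraMap R R' x = 0) : x = 0 := by
  obtain ⟨r, rfl⟩ := hx
  obtain ⟨⟨c, n, rfl⟩, hn⟩ := (IsLocalization.map_eq_zero_iff (Submonoid.powers σ) R' _).1 h0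
  have h : σ ^ (n + L) * r = 0 := by rw [pow_add, mul_assoc]; exact hn
  exact hL _ r h

end Groth.Agent.CStk17.CurveScheme
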