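import Groth.Agent.CStk17.FamLocus
import Groth.Agent.AlgSpDec.DecentDense
import Groth.Agent.AlgSpDec.Basic
import Groth.Agent.AlgSpDec.LimAffineBase
import Groth.Agent.AlgSpVal.ExistUC
import Groth.Agent.AlgSpOne.QaOpen
import Groth.Agent.AlgSpC7.FibreDimSp
import Groth.Agent.FlatDense.Basic
import Groth.Agent.GrpdField29.MaxPoint
import Groth.Agent.S7835
import Groth.Agent.EGA41Lib.IntDim
import Mathlib.RingTheory.NoetherNormalization
import Mathlib.RingTheory.KrullDimension.Polynomial

/-!
# A dense open affine piece of a one-dimensional space over a field, with finite complement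
-/

set_option autoImplicit false
set_option linter.style.haveILetI false
set_option backward.isDefEq.respectTransparency false
set_option backward.isDefEq.respectTransparency.types false

universe u

open CategoryTheory CategoryTheory.Limits AlgebraicGeometry AlgSp Groth.Agent.AlgSpLib

namespace Groth.Agent.CStk17.CurveScheme

variable {S : Scheme.{u}} {k : Type u} [Field k]

/-- A separated space of finite type of dimension at most one over a field point of the base. -/
structure Ctx (t : Spec (CommRingCat.of k) ⟶ S) where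
  /-- the space -/
  X : Sp S
  /-- the structure map -/
  f : X ⟶ (yon S).obj (Over.mk t)
  isAlgSpace : IsAlgSpace X
  sep : IsSeparatedMor f
  lft : LocP @LocallyOfFiniteType f
  qc : IsQuasiCompactMor f
  dimLE : ∀ ⦃U : Over S⦄ (a : (yon S).obj U ⟶ X) (g : U ⟶ Over.mk t), RepWith @Etale a → a ≫ f = (yon S).map g →
    ∀ u, FlatMor.fibreDimAt g.left u ≤ ((1 : ℕ) : WithBot ℕ∞)

variable {t : Spec (CommRingCat.of k) ⟶ S} (c : Ctx t)

theorem Ctx.chart_facts {U : Over S} {a : (yon S).obj U ⟶ c.X} (ha : RepWith @Etale a) {g : U ⟶ Over.mk t}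
    (hg : a ≫ c.f = (yon S).map g) :
    LocallyOfFiniteType g.left ∧ IsLocallyNoetherian U.left ∧ topologicalKrullDim U.left ≤ 1 := by
  have h : LocallyOfFiniteType g.left :=
    c.lft a (𝟙 _) g ha (repWith_id _ _) (by rw [Category.comp_id]; exact hg)
  haveI := h
  haveI : IsLocallyNoetherian (Over.mk t).left := inferInstanceAs (IsLocallyNoetherian (Spec (CommRingCat.of k)))
  haveI : Subsingleton ↥(Over.mk t).left := inferInstanceAs (Subsingleton (PrimeSpectrum k))
  refine ⟨h, LocallyOfFiniteType.isLocallyNoetherian g.left, ?_⟩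
  rw [AlgSpC7.FibreDimSp.topologicalKrullDim_eq_iSup_fibreDimAt g.left]
  exact iSup_le fun u => c.dimLE a g ha hg u

/-- A quasi-compact chart. -/
theorem Ctx.exists_qc_chart : ∃ (U : Over S) (a : (yon S).obj U ⟶ c.X), RepWith @Etale a ∧ RepWith @Surjective a ∧
    CompactSpace ↥U.left := by
  have hT : IsQuasiCompactSp ((yon S).obj (Over.mk t)) :=
    ⟨Over.mk t, 𝟙 _, repWith_id _ _, repWith_id _ _, inferInstanceAs (CompactSpace ↥(Spec (CommRingCat.of k)))⟩
  obtain ⟨U, a, he, hs, hU⟩ := AlgSpDec.isQuasiCompactSp_of_mor (IsAlgSpace.yon_obj _) c.qc hT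
  exact ⟨U, a, he, hs, hU⟩

theorem Ctx.isDecent : IsDecent c.X := by
  refine AlgSpDec.isDecent_of_isQuasiSeparatedSp c.isAlgSpace ?_
  haveI : IsAffine (Over.mk t).left := inferInstanceAs (IsAffine (Spec (CommRingCat.of k)))
  exact AlgSpVal.isQuasiSeparatedSp_of_toAffine c.f
    (repWith_mono (fun _ _ g (_ : IsClosedImmersion g) => inferInstanceAs (QuasiCompact g)) _ c.sep)

theorem finite_maximal_points {Z : Scheme.{u}} [IsNoetherian Z] : {η : Z | ∀ x, x ⤳ η → x = η}.Finite := by
  refine Set.Finite.subset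
    ((TopologicalSpace.NoetherianSpace.finite_irreducibleComponents (α := ↥Z)).subset (fun _ h => h) |>.biUnion
      (t := fun C => {η : Z | closure {η} = C}) fun C _ => ?_) fun η hη => ?_
  · exact Set.Subsingleton.finite fun a ha b hb => (inseparable_iff_closure_eq.2 (ha.trans hb.symm)).eq
  · refine Set.mem_biUnion (x := closure {η}) ?_ rfl
    obtain ⟨C, hC, hle⟩ := exists_mem_irreducibleComponents_subset_of_isIrreducible _
      (isIrreducible_singleton (x := η)).closure
    have hirr : IsIrreducible C := hC.1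
    have hcl : IsClosed C := isClosed_of_mem_irreducibleComponents C hC
    have hgen : closure {hirr.genericPoint} = C := hirr.closure_genericPoint hcl
    have hs : hirr.genericPoint ⤳ η :=
      specializes_iff_mem_closure.2 (hgen.symm ▸ hle (subset_closure rfl))
    rw [← hη _ hs, hgen]
    exact hC

/-- The dense open affine piece. -/
structure Piece where
  /-- the affine scheme -/
  V : Over S
  /-- the open immersion -/
  v : (yon S).obj V ⟶ c.X
  openImm : RepWith @IsOpenImmersion v
  affine : IsAffine V.left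
  dense : Dense (Set.range (Points.map v))

theorem Ctx.nonempty_piece : Nonempty (Piece c) := by
  obtain ⟨X', j, hj, hrep, hdense⟩ : ∃ (X' : Space S) (j : X' ⟶ ⟨c.X, c.isAlgSpace⟩),
      RepWith @IsOpenImmersion j.hom ∧ X'.obj.obj.IsRepresentable ∧ Dense (Set.range (Points.map j.hom)) :=
    AlgSpDec.exists_dense_open_subscheme_of_isDecent ⟨c.X, c.isAlgSpace⟩ c.isDecent
  obtain ⟨Z, ⟨e⟩⟩ := AlgSpOne.QaOpen.exists_iso_yon hrep
  let z : (yon S).obj Z ⟶ c.X := e.hom ≫ j.hom
  have hz : RepWith @IsOpenImmersion z := repWith_comp (repWith_of_isIso _ _) hj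
  have hrange : Set.range (Points.map z) = Set.range (Points.map j.hom) := by
    refine Set.Subset.antisymm ?_ ?_
    · rintro _ ⟨p, rfl⟩
      exact ⟨Points.map e.hom p, (Points.map_comp _ _ _).symm⟩
    · rintro _ ⟨p, rfl⟩
      refine ⟨Points.map e.inv p, ?_⟩
      rw [Points.map_comp, ← Points.map_comp e.inv e.hom, e.inv_hom_id, Points.map_id]
  have hze : RepWith @Etale z :=
    repWith_mono (fun _ _ g (_ : IsOpenImmersion g) => inferInstanceAs (Etale g)) _ hz
  obtain ⟨gZ, hgZ⟩ := (yon S).map_surjective (z ≫ c.f)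
  obtain ⟨-, hZN, -⟩ := c.chart_facts hze hgZ.symm
  obtain ⟨U, a, ha, ha', hUc⟩ := c.exists_qc_chart
  obtain ⟨gU, hgU⟩ := (yon S).map_surjective (a ≫ c.f)
  obtain ⟨-, hUN, -⟩ := c.chart_facts ha hgU.symm
  haveI := hZN
  haveI := hUN
  haveI : IsNoetherian U.left := { }
  let W : Over S := hz.rep.pullback a
  have sqW := hz.rep.isPullback' a
  have hW : IsOpenImmersion (hz.rep.snd a).left := hz.property_snd a
  haveI : Surjective (hz.rep.fst' a).left := ha'.property z _ _ sqW.flip
  haveI : CompactSpace ↥W.left := by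
    haveI := hW
    exact isCompact_univ_iff.1 (((hz.rep.snd a).left.isOpenEmbedding.toIsInducing.isCompact_iff).2
      (TopologicalSpace.NoetherianSpace.isCompact _))
  haveI : CompactSpace ↥Z.left := (hz.rep.fst' a).left.surjective.compactSpace (hz.rep.fst' a).left.continuous
  haveI : IsNoetherian Z.left := { }
  have hfin := finite_maximal_points (Z := Z.left)
  obtain ⟨V₀, hV₀, hmem⟩ := GrpdField29.exists_affine_of_maximal (X := Z.left) hfin.toFinset
    fun η hη => hfin.mem_toFinset.1 hη
  let V : Over S := Over.mk (V₀.ι ≫ Z.hom)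
  let i : V ⟶ Z := Over.homMk V₀.ι rfl
  refine ⟨⟨V, (yon S).map i ≫ z, repWith_comp ((repWith_yon_map_iff _ i).2 (inferInstanceAs (IsOpenImmersion V₀.ι))) hz,
    hV₀, ?_⟩⟩
  have hVd : Dense (V₀ : Set Z.left) := by
    intro x
    obtain ⟨C, hC, hxC⟩ : ∃ C ∈ irreducibleComponents ↥Z.left, x ∈ C :=
      ⟨irreducibleComponent x, irreducibleComponent_mem_irreducibleComponents x, mem_irreducibleComponent⟩
    have hgen : closure {hC.1.genericPoint} = C :=
      hC.1.closure_genericPoint (isClosed_of_mem_irreducibleComponents C hC)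
    have hmax : ∀ y, y ⤳ hC.1.genericPoint → y = hC.1.genericPoint := fun y hy => by
      have hsub : C ⊆ closure {y} := hgen ▸ isClosed_closure.closure_subset_iff.2 (by simpa using hy.mem_closure)
      have he : C = closure {y} :=
        Set.Subset.antisymm hsub (hC.2 (isIrreducible_singleton (x := y)).closure hsub)
      exact (inseparable_iff_closure_eq.2 (he.symm.trans hgen.symm)).eq
    refine closure_mono (Set.singleton_subset_iff.2 (hmem _ (hfin.mem_toFinset.2 hmax))) ?_
    rw [hgen]
    exact hxC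
  have hrv : Set.range (Points.map ((yon S).map i ≫ z)) = Points.map z '' (Points.schemeHomeo Z '' V₀) := by
    ext p
    simp only [Set.mem_range, Set.mem_image]
    constructor
    · rintro ⟨q, rfl⟩
      obtain ⟨w, rfl⟩ := (Points.schemeHomeo V).surjective q
      refine ⟨_, ⟨i.left w, w.2, rfl⟩, ?_⟩
      rw [Points.map_comp ((yon S).map i) z, Points.map_yon_map_apply]
    · rintro ⟨_, ⟨w, hw, rfl⟩, rfl⟩
      exact ⟨Points.schemeHomeo V ⟨w, hw⟩, by rw [Points.map_comp ((yon S).map i) z, Points.map_yon_map_apply]; rfl⟩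
  have hd2 : Dense (Points.schemeHomeo Z '' (V₀ : Set Z.left)) :=
    (Points.schemeHomeo Z).surjective.denseRange.dense_image (Points.schemeHomeo Z).continuous hVd
  rw [hrv]
  exact DenseRange.dense_image (by rw [DenseRange, hrange]; exact hdense) (Points.continuous_map z) hd2

variable {c} (P : Piece c)

/-- A piece is dense in every etale chart. -/
theorem Piece.dense_preimage {U : Over S} {a : (yon S).obj U ⟶ c.X} (ha : RepWith @Etale a) :
    Dense (Points.ofPt a ⁻¹' Set.range (Points.map P.v)) :=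
  P.dense.preimage (AlgSpLib.isOpenMap_ofPt ha)

theorem Piece.isOpen_range : IsOpen (Set.range (Points.map P.v)) := by
  have h := AlgSpLib.isOpenMap_ofPt (repWith_mono (fun _ _ g (_ : IsOpenImmersion g) => inferInstanceAs (Etale g)) _
    P.openImm) Set.univ isOpen_univ
  rw [Set.image_univ] at h
  convert h using 1
  ext p
  simp only [Set.mem_range]
  constructor
  · rintro ⟨q, rfl⟩
    obtain ⟨w, rfl⟩ := (Points.schemeHomeo P.V).surjective q
    exact ⟨w, Points.ofPt_eq_map_ofScheme P.v w⟩
  · rintro ⟨w, rfl⟩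
    exact ⟨_, (Points.ofPt_eq_map_ofScheme P.v w).symm⟩

theorem Piece.finite_compl {U : Over S} {a : (yon S).obj U ⟶ c.X} (ha : RepWith @Etale a) {g : U ⟶ Over.mk t}
    (hg : a ≫ c.f = (yon S).map g) [CompactSpace ↥U.left] :
    (Points.ofPt a ⁻¹' Set.range (Points.map P.v))ᶜ.Finite ∧
      ∀ u ∈ (Points.ofPt a ⁻¹' Set.range (Points.map P.v))ᶜ,
        IsClosed ({u} : Set U.left) ∧ ∃ y, y ⤳ u ∧ y ≠ u := by
  obtain ⟨-, hN, hdim⟩ := c.chart_facts ha hg
  haveI := hN
  haveI : IsNoetherian U.left := { }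
  let D : U.left.Opens := ⟨_, P.isOpen_range.preimage (Points.continuous_ofPt a)⟩
  have hcl : ∀ u ∈ (D : Set U.left)ᶜ, IsClosed ({u} : Set U.left) ∧ ∃ y, y ⤳ u ∧ y ≠ u := fun u hu => by
    have : ∃ y, y ⤳ u ∧ y ≠ u := by
      by_contra h
      push Not at h
      exact hu (FlatDense.mem_of_dense_of_max_scheme D (P.dense_preimage ha) h)
    obtain ⟨y, hy, hne⟩ := this
    exact ⟨S7835.isClosed_singleton_of_specializes hdim hy hne.symm, y, hy, hne⟩
  refine ⟨?_, hcl⟩
  show ((D : Set U.left)ᶜ).Finite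
  obtain ⟨Ts, hTs, hTc, hT, hU⟩ :=
    TopologicalSpace.NoetherianSpace.exists_finite_set_isClosed_irreducible (D.isOpen.isClosed_compl)
  rw [hU]
  refine hTs.sUnion fun C hC => Set.Subsingleton.finite ?_
  have hg := (hT C hC).closure_genericPoint (hTc C hC)
  have hmem : (hT C hC).genericPoint ∈ (D : Set U.left)ᶜ :=
    hU.symm ▸ Set.mem_sUnion_of_mem (hg.le (subset_closure rfl)) hC
  rw [(hcl _ hmem).1.closure_eq] at hg
  rw [← hg]
  exact Set.subsingleton_singleton

/-- The ring of the piece is finite over one parameter. -/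
theorem exists_parameter {A : Type u} [CommRing A] [Algebra k A] [Algebra.FiniteType k A]
    (hdim : ringKrullDim A ≤ 1) :
    ∃ τ : A, ∀ a : A, (Polynomial.eval₂RingHom (algebraMap k A) τ).IsIntegralElem a := by
  rcases subsingleton_or_nontrivial A with h | h
  · exact ⟨0, fun a => ⟨1, Polynomial.monic_one, Subsingleton.elim _ _⟩⟩
  obtain ⟨s, g, hinj, hint⟩ := exists_integral_inj_algHom_of_fg k A
  have hs : s ≤ 1 := by
    let _alg : Algebra (MvPolynomial (Fin s) k) A := g.toRingHom.toAlgebra
    haveI : Algebra.IsIntegral (MvPolynomial (Fin s) k) A := ⟨fun a => hint a⟩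
    have h2 : ringKrullDim A = ringKrullDim (MvPolynomial (Fin s) k) :=
      EGA41Lib.ringKrullDim_eq_of_integral (A := MvPolynomial (Fin s) k) (B := A) hinj
    rw [MvPolynomial.ringKrullDim_of_isNoetherianRing, ringKrullDim_eq_zero_of_field] at h2
    rw [h2, zero_add] at hdim
    simpa using hdim
  obtain ⟨τ, hτ⟩ : ∃ τ : A, ∀ p, g p ∈ (Polynomial.eval₂RingHom (algebraMap k A) τ).range := by
    refine ⟨if h : 0 < s then g (MvPolynomial.X ⟨0, h⟩) else 0, fun p => ?_⟩
    induction p using MvPolynomial.induction_on with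
    | C c => exact ⟨Polynomial.C c, by simp⟩
    | add p q hp hq => rw [map_add]; exact add_mem hp hq
    | mul_X p i hp =>
      rw [map_mul]
      refine mul_mem hp ⟨Polynomial.X, ?_⟩
      have h0 : 0 < s := i.pos
      have hi : i = ⟨0, h0⟩ := Fin.ext (by omega)
      rw [dif_pos h0, hi]
      simp
  refine ⟨τ, fun a => ?_⟩
  obtain ⟨p, hp, h0⟩ := hint a
  have hlift : p.map g.toRingHom ∈ Polynomial.lifts (Polynomial.eval₂RingHom (algebraMap k A) τ) := by
    rw [Polynomial.lifts_iff_coeff_lifts]
    exact fun n => by rw [Polynomial.coeff_map]; exact hτ _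
  obtain ⟨q, hq, -, hqm⟩ := Polynomial.lifts_and_degree_eq_and_monic hlift (hp.map _)
  refine ⟨q, hqm, ?_⟩
  rw [← Polynomial.eval_map, hq, Polynomial.eval_map]
  exact h0

end Groth.Agent.CStk17.CurveScheme
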