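import Mathlib.AlgebraicGeometry.Morphisms.QuasiFinite
import Mathlib.AlgebraicGeometry.Morphisms.Finite
import Mathlib.RingTheory.Algebraic.Basic
import Mathlib.RingTheory.Algebraic.Integral
import Mathlib.RingTheory.AdjoinRoot
import Mathlib.RingTheory.Artinian.Module
import Mathlib.RingTheory.Spectrum.Prime.RingHom
import Groth.Prelude.Def_AlgSp4

/-!
# Functions on schemes over a field point of the base, and the fibres of an inverse power of a function
-/

set_option autoImplicit false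
set_option linter.style.haveILetI false
set_option backward.isDefEq.respectTransparency false
set_option backward.isDefEq.respectTransparency.types false

universe u

open CategoryTheory CategoryTheory.Limits AlgebraicGeometry Polynomial

namespace Groth.Agent.CStk17.CurveScheme

variable {S : Scheme.{u}} {k : Type u} [Field k] {t : Spec (CommRingCat.of k) ⟶ S}

/-- Pull back of functions. -/
noncomputable abbrev pb {X Y : Over S} (f : X ⟶ Y) : Γ(Y.left, ⊤) →+* Γ(X.left, ⊤) := f.left.appTop.hom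

theorem pb_comp {X Y Z : Over S} (f : X ⟶ Y) (g : Y ⟶ Z) (x : Γ(Z.left, ⊤)) : pb (f ≫ g) x = pb f (pb g x) := by
  simp [pb, Scheme.Hom.comp_appTop]

/-- The scalars of a scheme over the field point. -/
noncomputable abbrev kTo {X : Over S} (g : X ⟶ Over.mk t) : k →+* Γ(X.left, ⊤) :=
  (g.left.appTop.hom : Γ(Spec (CommRingCat.of k), ⊤) →+* _).comp (Scheme.ΓSpecIso (CommRingCat.of k)).inv.hom

theorem kTo_comp {X Y : Over S} (f : X ⟶ Y) (g : Y ⟶ Over.mk t) : kTo (f ≫ g) = (pb f).comp (kTo g) := by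
  ext x
  exact pb_comp f g _

variable (t) in
/-- The affine line over the field point. -/
noncomputable abbrev line : Over S := Over.mk (Spec.map (CommRingCat.ofHom (Polynomial.C : k →+* k[X])) ≫ t)

variable (t) in
/-- The projection of the affine line. -/
noncomputable def lineProj : line t ⟶ Over.mk t :=
  Over.homMk (Spec.map (CommRingCat.ofHom (Polynomial.C : k →+* k[X]))) rfl

theorem toSpecΓ_kTo {X : Over S} (g : X ⟶ Over.mk t) :
    X.left.toSpecΓ ≫ Spec.map (CommRingCat.ofHom (kTo g)) = g.left := by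
  have h : CommRingCat.ofHom (kTo g) = (Scheme.ΓSpecIso (CommRingCat.of k)).inv ≫ g.left.appTop := rfl
  rw [h, Spec.map_comp]
  refine (Scheme.toSpecΓ_naturality_assoc (f := (g.left : X.left ⟶ Spec (CommRingCat.of k))) _).symm.trans ?_
  show g.left ≫ (Spec (CommRingCat.of k)).toSpecΓ ≫ _ = _
  rw [← SpecMap_ΓSpecIso_hom, ← Spec.map_comp, Iso.inv_hom_id, Spec.map_id]
  exact Category.comp_id _

theorem toSpecΓ_eval_C {X : Over S} (g : X ⟶ Over.mk t) (f : Γ(X.left, ⊤)) :
    X.left.toSpecΓ ≫ Spec.map (CommRingCat.ofHom (eval₂RingHom (kTo g) f)) ≫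
      Spec.map (CommRingCat.ofHom (Polynomial.C : k →+* k[X])) = g.left := by
  rw [← Spec.map_comp, ← CommRingCat.ofHom_comp]
  have h : (eval₂RingHom (kTo g) f).comp (Polynomial.C : k →+* k[X]) = kTo g := by ext x; simp
  rw [h]
  exact toSpecΓ_kTo g

/-- A function as a map to the affine line. -/
noncomputable def funHom {X : Over S} (g : X ⟶ Over.mk t) (f : Γ(X.left, ⊤)) : X ⟶ line t :=
  Over.homMk (X.left.toSpecΓ ≫ Spec.map (CommRingCat.ofHom (eval₂RingHom (kTo g) f))) (by
    show (X.left.toSpecΓ ≫ _) ≫ Spec.map _ ≫ t = X.hom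
    rw [← Over.w g]
    show _ = g.left ≫ t
    rw [← toSpecΓ_eval_C g f]
    simp only [Category.assoc])

theorem funHom_proj {X : Over S} (g : X ⟶ Over.mk t) (f : Γ(X.left, ⊤)) : funHom g f ≫ lineProj t = g :=
  Over.OverMorphism.ext ((Category.assoc _ _ _).trans (toSpecΓ_eval_C g f))

theorem comp_funHom {X Y : Over S} (ρ : X ⟶ Y) (g : Y ⟶ Over.mk t) (f : Γ(Y.left, ⊤)) :
    ρ ≫ funHom g f = funHom (ρ ≫ g) (pb ρ f) := by
  apply Over.OverMorphism.ext
  show ρ.left ≫ Y.left.toSpecΓ ≫ _ = X.left.toSpecΓ ≫ _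
  rw [Scheme.toSpecΓ_naturality_assoc, ← Spec.map_comp]
  congr 2
  refine CommRingCat.hom_ext ?_
  show (pb ρ).comp (eval₂RingHom (kTo g) f) = eval₂RingHom (kTo (ρ ≫ g)) (pb ρ f)
  refine Polynomial.ringHom_ext (fun x => ?_) ?_
  · simp [kTo_comp]
  · simp

theorem funHom_lft {X : Over S} (g : X ⟶ Over.mk t) (f : Γ(X.left, ⊤)) [LocallyOfFiniteType g.left] :
    LocallyOfFiniteType (funHom g f).left := by
  have h : LocallyOfFiniteType ((funHom g f).left ≫ (lineProj t).left) := by
    rw [← Over.comp_left, funHom_proj]; infer_instance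
  exact locallyOfFiniteType_of_comp (funHom g f).left (lineProj t).left

section Algebra

variable {B : Type*} [CommRing B] (κ : k →+* B) {τ h : B} {m : ℕ}

private theorem exists_poly_inv_pow {K : Type*} [Field K] [Algebra k K] {x y : K} (hxy : y * x ^ m = 1)
    (hx : IsAlgebraic k x) : IsAlgebraic k y := by
  rw [show y = (x ^ m)⁻¹ from eq_inv_of_mul_eq_one_left hxy]
  exact IsAlgebraic.inv (hx.pow m)

/-- The fibres of `h = τ⁻ᵐ` are finite when the fibres of `τ` are. -/
theorem finite_fibre_inv (hm : 0 < m) (hτ : h * τ ^ m = 1)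
    (hfin : ∀ q : PrimeSpectrum k[X], {p : PrimeSpectrum B | PrimeSpectrum.comap (eval₂RingHom κ τ) p = q}.Finite)
    (q : PrimeSpectrum k[X]) : {p : PrimeSpectrum B | PrimeSpectrum.comap (eval₂RingHom κ h) p = q}.Finite := by
  classical
  by_cases hq : q.asIdeal = ⊥
  · refine (hfin ⟨⊥, Ideal.isPrime_bot⟩).subset fun p hp => ?_
    have hp' : p.asIdeal.comap (eval₂RingHom κ h) = ⊥ := hq ▸ congrArg PrimeSpectrum.asIdeal hp
    refine PrimeSpectrum.ext (bot_unique fun g hg => ?_)
    by_contra hne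
    change g ≠ 0 at hne
    let K := FractionRing (B ⧸ p.asIdeal)
    let φ : B →+* K := (algebraMap (B ⧸ p.asIdeal) K).comp (Ideal.Quotient.mk p.asIdeal)
    let _ : Algebra k K := (φ.comp κ).toAlgebra
    have hker : ∀ x, φ x = 0 ↔ x ∈ p.asIdeal := fun x => by
      simp [φ, Ideal.Quotient.eq_zero_iff_mem]
    have hev : ∀ (b : B) (f : k[X]), Polynomial.aeval (φ b) f = φ (f.eval₂ κ b) := fun b f => by
      rw [Polynomial.hom_eval₂]; rfl
    have halg : IsAlgebraic k (φ τ) := ⟨g, hne, by rw [hev, hker]; exact hg⟩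
    obtain ⟨g', hg', h0⟩ := exists_poly_inv_pow (y := φ h) (m := m) (by rw [← map_pow, ← map_mul, hτ, map_one]) halg
    rw [hev, hker] at h0
    exact hg' (Ideal.mem_bot.1 (hp' ▸ (show g' ∈ p.asIdeal.comap (eval₂RingHom κ h) from h0)))
  · obtain ⟨g₀, hg₀, hne⟩ := Submodule.exists_mem_ne_zero_of_ne_bot hq
    let g₁ : k[X] := g₀.reverse.comp (Polynomial.X ^ m)
    have hg₁ : g₁ ≠ 0 := by
      intro h0
      rcases Polynomial.comp_eq_zero_iff.1 h0 with h1 | ⟨-, h2⟩
      · exact hne (Polynomial.reverse_eq_zero.1 h1)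
      · rw [Polynomial.coeff_X_pow, if_neg hm.ne, map_zero] at h2
        exact pow_ne_zero m Polynomial.X_ne_zero h2
    have hfinite : {q' : PrimeSpectrum k[X] | g₁ ∈ q'.asIdeal}.Finite := by
      haveI : Module.Finite k (AdjoinRoot g₁) := (AdjoinRoot.powerBasis hg₁).finite
      haveI : IsArtinianRing (AdjoinRoot g₁) := IsArtinianRing.of_finite k _
      refine (Set.finite_range (PrimeSpectrum.comap (AdjoinRoot.mk g₁))).subset fun q' h => ?_
      rw [range_comap_of_surjective _ _ AdjoinRoot.mk_surjective, PrimeSpectrum.mem_zeroLocus]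
      intro x hx
      obtain ⟨y, rfl⟩ := Ideal.mem_span_singleton.1 (AdjoinRoot.mk_eq_zero.1 hx |> Ideal.mem_span_singleton.2)
      exact Ideal.mul_mem_right _ _ h
    refine (hfinite.biUnion fun q' _ => hfin q').subset fun p hp => ?_
    refine Set.mem_biUnion (x := PrimeSpectrum.comap (eval₂RingHom κ τ) p) ?_ rfl
    have hinv : g₀.eval₂ κ h ∈ p.asIdeal := by
      have h' : PrimeSpectrum.comap (eval₂RingHom κ h) p = q := hp
      rw [← h'] at hg₀
      exact hg₀
    show eval₂RingHom κ τ g₁ ∈ p.asIdeal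
    rw [coe_eval₂RingHom, Polynomial.eval₂_comp, Polynomial.eval₂_X_pow]
    let _ : Invertible h := ⟨τ ^ m, (mul_comm _ _).trans hτ, hτ⟩
    have he := Polynomial.eval₂_reverse_mul_pow κ h g₀
    rw [show ⅟h = τ ^ m from rfl] at he
    have : g₀.reverse.eval₂ κ (τ ^ m) * h ^ g₀.natDegree ∈ p.asIdeal := he.symm ▸ hinv
    refine (p.isPrime.mem_or_mem this).resolve_right fun hh => p.isPrime.ne_top ?_
    have h1 : (h * τ ^ m) ^ g₀.natDegree ∈ p.asIdeal := by
      rw [mul_pow]; exact Ideal.mul_mem_right _ _ hh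
    rw [hτ, one_pow] at h1
    exact (Ideal.eq_top_iff_one _).2 h1

end Algebra

theorem finite_preimage_inv {X : Over S} [IsAffine X.left] (g : X ⟶ Over.mk t) {τ h : Γ(X.left, ⊤)} {m : ℕ}
    (hm : 0 < m) (hτ : h * τ ^ m = 1) (hfin : ∀ y, ((funHom g τ).left ⁻¹' {y}).Finite) (y : ↥(line t).left) :
    ((funHom g h).left ⁻¹' {y}).Finite := by
  have hbij : Function.Bijective X.left.toSpecΓ :=
    (ConcreteCategory.bijective_of_isIso ((Scheme.forgetToTop ⋙ forget TopCat).map X.left.toSpecΓ))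
  have hpt : ∀ (f : Γ(X.left, ⊤)) (x : X.left),
      (funHom g f).left x = PrimeSpectrum.comap (eval₂RingHom (kTo g) f) (X.left.toSpecΓ x) := fun f x => rfl
  have key : ∀ q : PrimeSpectrum k[X],
      {p : PrimeSpectrum Γ(X.left, ⊤) | PrimeSpectrum.comap (eval₂RingHom (kTo g) τ) p = q}.Finite := fun q => by
    refine ((hfin q).image X.left.toSpecΓ).subset fun p hp => ?_
    obtain ⟨x, rfl⟩ := hbij.2 p
    exact ⟨x, (hpt τ x).trans hp, rfl⟩
  exact ((finite_fibre_inv (kTo g) hm hτ key y).preimage hbij.1.injOn).subset fun x hx => (hpt h x).symm.trans hx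

end Groth.Agent.CStk17.CurveScheme
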