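import Groth.Agent.CStk17.CurveScheme.Base
import Groth.Agent.CStk17.CurveScheme.Algebra
import Groth.Agent.CStk17.CurveScheme.Fun
import Groth.Agent.AlgSpPts.Diag
import Groth.Agent.AlgSpPts.OpenSub
import Groth.Agent.AlgSpDec.SchDenseSp
import Groth.Agent.AlgSpDec.LqfScheme

/-!
# Good neighbourhoods of the points outside the dense piece
-/

set_option autoImplicit false
set_option linter.style.haveILetI false
set_option backward.isDefEq.respectTransparency false
set_option backward.isDefEq.respectTransparency.types false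

universe u

open CategoryTheory CategoryTheory.Limits AlgebraicGeometry AlgSp Groth.Agent.AlgSpLib
open Polynomial (eval₂RingHom)

namespace Groth.Agent.CStk17.CurveScheme

/-- A closed point which is not generic is cut out by one function near it. -/
theorem exists_cut {C : Type*} [CommRing C] [IsNoetherianRing C] (hdim : ringKrullDim C ≤ 1)
    {m q : PrimeSpectrum C} (hq : q < m) :
    ∃ g s : C, g ∉ m.asIdeal ∧ ∀ p : PrimeSpectrum C, g ∉ p.asIdeal → (s ∉ p.asIdeal ↔ p ≠ m) := by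
  classical
  haveI : Ring.KrullDimLE 1 C := (Ring.krullDimLE_iff).2 hdim
  have hmax : ∀ p : Ideal C, p.IsPrime → p ∉ minimalPrimes C → p.IsMaximal := fun p hp h =>
    ((Ring.krullDimLE_one_iff.1 inferInstance p hp).resolve_left h)
  have hm : m.asIdeal ∉ minimalPrimes C := fun h =>
    hq.not_ge (h.2 ⟨q.2, bot_le⟩ hq.le)
  obtain ⟨s, hsm, hs⟩ : ∃ s ∈ m.asIdeal, ∀ p ∈ minimalPrimes C, s ∉ p := by
    by_contra hcon
    push Not at hcon
    have hfin := minimalPrimes.finite_of_isNoetherianRing C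
    have hsub : (m.asIdeal : Set C) ⊆ ⋃ p ∈ (hfin.toFinset : Set (Ideal C)), (p : Set C) := fun s hs => by
      obtain ⟨p, hp, hsp⟩ := hcon s hs
      exact Set.mem_biUnion (hfin.mem_toFinset.2 hp) hsp
    obtain ⟨p, hp, hle⟩ := (Ideal.subset_union_prime ⊥ ⊥ (fun i hi _ _ => (hfin.mem_toFinset.1 hi).1.1)).1 hsub
    rw [Set.Finite.mem_toFinset] at hp
    exact hm (le_antisymm hle (hp.2 ⟨m.2, bot_le⟩ hle) ▸ hp)
  have hclosed : ∀ p : PrimeSpectrum C, s ∈ p.asIdeal → p.asIdeal.IsMaximal := fun p hp =>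
    hmax _ p.2 fun h => hs _ h hp
  have hfin : {p : PrimeSpectrum C | s ∈ p.asIdeal ∧ p ≠ m}.Finite := by
    refine ((Ideal.finite_minimalPrimes_of_isNoetherianRing C (Ideal.span {s})).preimage
      (fun p _ p' _ h => PrimeSpectrum.ext h)).subset fun p hp => ?_
    obtain ⟨p₀, hp₀, hle⟩ := Ideal.exists_minimalPrimes_le
      ((Ideal.span_singleton_le_iff_mem _).2 hp.1 : Ideal.span {s} ≤ p.asIdeal)
    have hm₀ : p₀.IsMaximal := hclosed ⟨p₀, hp₀.1.1⟩ (hp₀.1.2 (Ideal.mem_span_singleton_self s))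
    show p.asIdeal ∈ (Ideal.span {s}).minimalPrimes
    rw [← hm₀.eq_of_le p.2.ne_top hle]
    exact hp₀
  have hx : ∀ p ∈ hfin.toFinset, ∃ x ∈ p.asIdeal, x ∉ m.asIdeal := fun p hp => by
    obtain ⟨hsp, hne⟩ := hfin.mem_toFinset.1 hp
    exact SetLike.not_le_iff_exists.1 fun hle => hne (PrimeSpectrum.ext ((hclosed p hsp).eq_of_le m.2.ne_top hle))
  choose x hxp hxm using hx
  refine ⟨∏ p : {p // p ∈ hfin.toFinset}, x p.1 p.2, s, ?_, fun p hg => ⟨?_, fun hne hsp => ?_⟩⟩
  · intro h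
    obtain ⟨p, -, hp⟩ := (Ideal.IsPrime.prod_mem_iff).1 h
    exact hxm _ _ hp
  · rintro hsp rfl
    exact hsp hsm
  · exact hg (Ideal.IsPrime.prod_mem_iff.2
      ⟨⟨p, hfin.mem_toFinset.2 ⟨hsp, hne⟩⟩, Finset.mem_univ _, hxp _ _⟩)

variable {S : Scheme.{u}} {k : Type u} [Field k] {t : Spec (CommRingCat.of k) ⟶ S} {c : Ctx t} (P : Piece c)

theorem Piece.etale : RepWith @Etale P.v :=
  repWith_mono (fun _ _ g (_ : IsOpenImmersion g) => inferInstanceAs (Etale g)) _ P.openImm

/-- The structure map of the piece. -/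
noncomputable def Piece.g : P.V ⟶ Over.mk t := (yon S).preimage (P.v ≫ c.f)

theorem Piece.g_spec : P.v ≫ c.f = (yon S).map P.g := ((yon S).map_preimage _).symm

theorem Piece.exists_tau : ∃ τ : Γ(P.V.left, ⊤), IsFinite (funHom P.g τ).left := by
  haveI := P.affine
  obtain ⟨hl, -, hdim⟩ := c.chart_facts P.etale P.g_spec
  haveI := hl
  haveI : IsAffine (Over.mk t).left := inferInstanceAs (IsAffine (Spec (CommRingCat.of k)))
  let _ : Algebra k Γ(P.V.left, ⊤) := (kTo P.g).toAlgebra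
  haveI : Algebra.FiniteType k Γ(P.V.left, ⊤) := by
    have h1 : (P.g.left.appTop).hom.FiniteType :=
      (HasRingHomProperty.iff_of_isAffine (P := @LocallyOfFiniteType)).1 hl
    exact h1.comp (RingHom.FiniteType.of_surjective _
      (ConcreteCategory.bijective_of_isIso (Scheme.ΓSpecIso (CommRingCat.of k)).inv).2)
  have hd : ringKrullDim Γ(P.V.left, ⊤) ≤ 1 := by
    rw [← PrimeSpectrum.topologicalKrullDim_eq_ringKrullDim]
    exact ((Scheme.homeoOfIso P.V.left.isoSpec).isHomeomorph.topologicalKrullDim_eq _).ge.trans hdim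
  obtain ⟨τ, hτ⟩ := exists_parameter (k := k) hd
  refine ⟨τ, (IsFinite.iff_isIntegralHom_and_locallyOfFiniteType _).2 ⟨?_, funHom_lft P.g τ⟩⟩
  have : IsIntegralHom (Spec.map (CommRingCat.ofHom (eval₂RingHom (kTo P.g) τ))) := IsIntegralHom.SpecMap_iff.2 hτ
  exact inferInstanceAs (IsIntegralHom (P.V.left.toSpecΓ ≫ Spec.map (CommRingCat.ofHom (eval₂RingHom (kTo P.g) τ))))

/-- An affine etale neighbourhood meeting the complement of the piece in one point cut out by one function. -/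
structure Nbhd where
  /-- the chart -/
  T : Over S
  /-- its map to the space -/
  a : (yon S).obj T ⟶ c.X
  etale : RepWith @Etale a
  affine : IsAffine T.left
  /-- the point outside the piece -/
  u : T.left
  /-- the equation of the point -/
  s : Γ(T.left, ⊤)
  mem_basicOpen : ∀ x, x ∈ T.left.basicOpen s ↔ x ≠ u
  mem_range : ∀ x, Points.ofPt a x ∈ Set.range (Points.map P.v) ↔ x ≠ u

variable {P}

/-- The part of a neighbourhood inside the piece. -/
noncomputable abbrev Nbhd.R (N : Nbhd P) : Over S := Over.mk ((N.T.left.basicOpen N.s).ι ≫ N.T.hom)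

/-- The inclusion of the part inside the piece. -/
noncomputable abbrev Nbhd.j (N : Nbhd P) : N.R ⟶ N.T := Over.homMk (N.T.left.basicOpen N.s).ι rfl

theorem Nbhd.exists_r (N : Nbhd P) : ∃ r : N.R ⟶ P.V, IsPullback ((yon S).map r) ((yon S).map N.j) P.v N.a := by
  have he : N.T.left.basicOpen N.s = AlgSpDec.SchDenseSp.pre c.isAlgSpace P.openImm N.a :=
    TopologicalSpace.Opens.ext (Set.ext fun x => (N.mem_basicOpen x).trans (N.mem_range x).symm)
  have hex : ∀ O : N.T.left.Opens, O = AlgSpDec.SchDenseSp.pre c.isAlgSpace P.openImm N.a →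
      ∃ fst : (yon S).obj (Over.mk (O.ι ≫ N.T.hom)) ⟶ (yon S).obj P.V, IsPullback fst
        ((yon S).map (Over.homMk O.ι rfl : Over.mk (O.ι ≫ N.T.hom) ⟶ N.T)) P.v N.a := by
    rintro O rfl
    exact AlgSpDec.SchDenseSp.exists_isPullback c.isAlgSpace P.openImm N.a
  obtain ⟨fst, sq⟩ := hex _ he
  obtain ⟨r, rfl⟩ := (yon S).map_surjective fst
  exact ⟨r, sq⟩

/-- The map of the part inside the piece to the piece. -/
noncomputable def Nbhd.r (N : Nbhd P) : N.R ⟶ P.V := N.exists_r.choose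

theorem Nbhd.sq (N : Nbhd P) : IsPullback ((yon S).map N.r) ((yon S).map N.j) P.v N.a := N.exists_r.choose_spec

/-- The structure map of a neighbourhood. -/
noncomputable def Nbhd.g (N : Nbhd P) : N.T ⟶ Over.mk t := (yon S).preimage (N.a ≫ c.f)

theorem Nbhd.g_spec (N : Nbhd P) : N.a ≫ c.f = (yon S).map N.g := ((yon S).map_preimage _).symm

theorem Nbhd.w (N : Nbhd P) : N.r ≫ P.g = N.j ≫ N.g := (yon S).map_injective (by
  rw [(yon S).map_comp, (yon S).map_comp, ← P.g_spec, ← N.g_spec, N.sq.w_assoc])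

theorem Nbhd.isAffine_R (N : Nbhd P) : IsAffine N.R.left :=
  haveI := N.affine
  (isAffineOpen_top N.T.left).basicOpen N.s

noncomputable instance Nbhd.algebra (N : Nbhd P) : Algebra Γ(N.T.left, ⊤) Γ(N.R.left, ⊤) := (pb N.j).toAlgebra

instance Nbhd.isLocalization (N : Nbhd P) : IsLocalization.Away N.s Γ(N.R.left, ⊤) := by
  haveI := N.affine
  letI := (N.T.left.presheaf.map (homOfLE (le_top : N.T.left.basicOpen N.s ≤ ⊤)).op).hom.toAlgebra
  haveI : IsLocalization.Away N.s Γ(N.T.left, N.T.left.basicOpen N.s) :=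
    (isAffineOpen_top N.T.left).isLocalization_basicOpen N.s
  let D := N.T.left.basicOpen N.s
  let e : Γ(N.T.left, D) ≃ₐ[Γ(N.T.left, ⊤)] Γ(N.R.left, ⊤) :=
    AlgEquiv.ofRingEquiv (f := D.topIso.symm.commRingCatIsoToRingEquiv) fun x => by
      show D.topIso.inv.hom ((N.T.left.presheaf.map _).hom x) = D.ι.appTop.hom x
      rw [← CommRingCat.comp_apply]
      congr 2
      simp [Scheme.Opens.topIso, ← Functor.map_comp]
  exact IsLocalization.isLocalization_of_algEquiv _ e

/-- Separatedness: the two projections of the part inside the piece generate its functions. -/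
theorem Nbhd.closure_eq_top (N : Nbhd P) :
    Subring.closure (Set.range (algebraMap Γ(N.T.left, ⊤) Γ(N.R.left, ⊤)) ∪ Set.range (pb N.r)) = ⊤ := by
  haveI := N.affine
  haveI := P.affine
  haveI := N.isAffine_R
  let Q := pullback P.g N.g
  let l : N.R ⟶ Q := pullback.lift N.r N.j N.w
  have sqQ := (IsPullback.of_hasPullback P.g N.g).map (yon S)
  have hcomm : ((yon S).map (pullback.fst P.g N.g) ≫ P.v) ≫ c.f =
      ((yon S).map (pullback.snd P.g N.g) ≫ N.a) ≫ c.f := by
    rw [Category.assoc, Category.assoc, P.g_spec, N.g_spec, ← Functor.map_comp, ← Functor.map_comp, pullback.condition]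
  have sqd : IsPullback ((yon S).map N.r ≫ P.v) ((yon S).map l) (pullback.diagonal c.f)
      (pullback.lift ((yon S).map (pullback.fst P.g N.g) ≫ P.v) ((yon S).map (pullback.snd P.g N.g) ≫ N.a) hcomm) := by
    have h1 : (yon S).map l ≫ (yon S).map (pullback.fst P.g N.g) = (yon S).map N.r := by
      rw [← Functor.map_comp, pullback.lift_fst]
    have h2 : (yon S).map l ≫ (yon S).map (pullback.snd P.g N.g) = (yon S).map N.j := by
      rw [← Functor.map_comp, pullback.lift_snd]
    refine ⟨⟨?_⟩, ⟨PullbackCone.IsLimit.mk _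
      (fun z => N.sq.lift (z.snd ≫ (yon S).map (pullback.fst P.g N.g)) (z.snd ≫ (yon S).map (pullback.snd P.g N.g)) ?_)
      ?_ ?_ ?_⟩⟩
    · apply pullback.hom_ext
      · simp [reassoc_of% h1]
      · simp [reassoc_of% h2, N.sq.w]
    · have e1 := z.condition =≫ pullback.fst _ _
      have e2 := z.condition =≫ pullback.snd _ _
      simp only [Category.assoc, pullback.lift_fst, pullback.lift_snd, pullback.diagonal_fst, pullback.diagonal_snd,
        Category.comp_id] at e1 e2
      rw [Category.assoc, Category.assoc, ← e1, ← e2]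
    · intro z
      have e1 := z.condition =≫ pullback.fst _ _
      simp only [Category.assoc, pullback.lift_fst, pullback.diagonal_fst, Category.comp_id] at e1
      rw [← Category.assoc, N.sq.lift_fst, Category.assoc, ← e1]
    · intro z
      apply sqQ.hom_ext
      · rw [Category.assoc, h1, N.sq.lift_fst]
      · rw [Category.assoc, h2, N.sq.lift_snd]
    · intro z m _ m2
      apply N.sq.hom_ext
      · rw [N.sq.lift_fst, ← h1, ← Category.assoc, m2]
      · rw [N.sq.lift_snd, ← h2, ← Category.assoc, m2]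
  haveI : IsClosedImmersion l.left := c.sep.2 _ _ _ sqd
  let g₁ : P.V.left ⟶ Spec (CommRingCat.of k) := P.g.left
  let g₂ : N.T.left ⟶ Spec (CommRingCat.of k) := N.g.left
  have sqS : IsPullback (pullback.fst P.g N.g).left (pullback.snd P.g N.g).left g₁ g₂ :=
    (IsPullback.of_hasPullback P.g N.g).map (Over.forget S)
  let n : Q.left ⟶ pullback (terminal.from P.V.left) (terminal.from N.T.left) :=
    sqS.isoPullback.hom ≫ pullback.mapDesc g₁ g₂ (terminal.from (Spec (CommRingCat.of k))) ≫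
      (pullback.congrHom (terminal.hom_ext _ _) (terminal.hom_ext _ _)).hom
  haveI : IsClosedImmersion n := by simp only [n]; infer_instance
  have hln : l.left ≫ n = pullback.lift N.r.left N.j.left (terminal.hom_ext _ _) := by
    apply pullback.hom_ext
    · simp [n, g₁, g₂, ← Over.comp_left, l]
    · simp [n, g₁, g₂, ← Over.comp_left, l]
  haveI hci : IsClosedImmersion (pullback.lift N.r.left N.j.left (terminal.hom_ext _ _) :
      N.R.left ⟶ pullback (terminal.from P.V.left) (terminal.from N.T.left)) := hln ▸ inferInstance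
  have hs := (AlgSpPts.isClosedImmersion_iff_productMap N.r.left N.j.left).1 hci
  rw [eq_top_iff]
  rintro y -
  obtain ⟨z, rfl⟩ := hs y
  induction z using TensorProduct.induction_on with
  | zero => rw [map_zero]; exact zero_mem _
  | tmul a b =>
    rw [Algebra.TensorProduct.productMap_apply_tmul]
    exact mul_mem (Subring.subset_closure (Or.inr ⟨a, rfl⟩)) (Subring.subset_closure (Or.inl ⟨b, rfl⟩))
  | add x y hx hy => rw [map_add]; exact add_mem hx hy

/-- High powers of `1/τ` extend to functions divisible by high powers of the equation. -/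
def Good (τ : Γ(P.V.left, ⊤)) (N : Nbhd P) : Prop :=
  ∃ z : Γ(N.R.left, ⊤), z * pb N.r τ = 1 ∧
    ∀ M : ℕ, ∃ m₀ : ℕ, ∀ m, m₀ ≤ m → ∃ e : Γ(N.T.left, ⊤), pb N.j (N.s ^ M * e) = z ^ m

theorem Nbhd.exists_good (N : Nbhd P) {τ : Γ(P.V.left, ⊤)} (hτ : IsFinite (funHom P.g τ).left) :
    ∃ N' : Nbhd P, Points.ofPt N'.a N'.u = Points.ofPt N.a N.u ∧ Good τ N' := by
  haveI := P.affine
  haveI := N.affine
  have hint : ∀ a : Γ(P.V.left, ⊤), (eval₂RingHom (kTo P.g) τ).IsIntegralElem a := by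
    have h1 : IsIntegralHom (P.V.left.toSpecΓ ≫ Spec.map (CommRingCat.ofHom (eval₂RingHom (kTo P.g) τ))) :=
      ((IsFinite.iff_isIntegralHom_and_locallyOfFiniteType _).1 hτ).1
    rw [MorphismProperty.cancel_left_of_respectsIso @IsIntegralHom] at h1
    exact IsIntegralHom.SpecMap_iff.1 h1
  obtain ⟨q, hq⟩ := exists_poly (C := Γ(N.T.left, ⊤)) (B := Γ(N.R.left, ⊤)) (kA := kTo P.g) (kC := kTo N.g)
    N.s (pb N.r) (by rw [← kTo_comp, N.w, kTo_comp]; rfl) N.closure_eq_top τ hint
  let g := 1 - N.s * q.coeff 0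
  have hu : N.u ∈ N.T.left.basicOpen g := by
    have hn : N.u ∉ N.T.left.basicOpen N.s := fun h => (N.mem_basicOpen _).1 h rfl
    rw [Scheme.mem_basicOpen N.T.left _ _ (TopologicalSpace.Opens.mem_top N.u)] at hn ⊢
    rw [map_sub, map_one, map_mul]
    refine IsLocalRing.isUnit_one_sub_self_of_mem_nonunits _ fun h => hn (isUnit_of_mul_isUnit_left h)
  let T' : Over S := Over.mk ((N.T.left.basicOpen g).ι ≫ N.T.hom)
  let ρ : T' ⟶ N.T := Over.homMk (N.T.left.basicOpen g).ι rfl
  have hρ : RepWith @Etale ((yon S).map ρ) :=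
    (repWith_yon_map_iff _ _).2 (inferInstanceAs (Etale (N.T.left.basicOpen g).ι))
  obtain ⟨N', ρ, hs', ha'', hpt, hunit⟩ : ∃ (N' : Nbhd P) (ρ : N'.T ⟶ N.T), N'.s = pb ρ N.s ∧
      N'.a = (yon S).map ρ ≫ N.a ∧ Points.ofPt N'.a N'.u = Points.ofPt N.a N.u ∧ IsUnit (pb ρ g) := by
    refine ⟨
    { T := T'
      a := (yon S).map ρ ≫ N.a
      etale := repWith_comp hρ N.etale
      affine := (isAffineOpen_top N.T.left).basicOpen g
      u := ⟨N.u, hu⟩
      s := pb ρ N.s
      mem_basicOpen := fun x => by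
        have he : T'.left.basicOpen (pb ρ N.s) = ρ.left ⁻¹ᵁ N.T.left.basicOpen N.s :=
          (Scheme.preimage_basicOpen_top ρ.left N.s).symm
        rw [he]
        exact (N.mem_basicOpen (ρ.left x)).trans ⟨fun h h' => h (h' ▸ rfl), fun h h' => h (Subtype.ext h')⟩
      mem_range := fun x => by
        rw [ofPt_comp]
        exact (N.mem_range (ρ.left x)).trans ⟨fun h h' => h (h' ▸ rfl), fun h h' => h (Subtype.ext h')⟩ },
      ρ, rfl, rfl, (ofPt_comp ρ N.a _).trans rfl, ?_⟩
    have he : T'.left.basicOpen (pb ρ g) = ρ.left ⁻¹ᵁ N.T.left.basicOpen g :=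
      (Scheme.preimage_basicOpen_top ρ.left g).symm
    refine T'.left.toRingedSpace.isUnit_of_isUnit_germ ⊤ _ fun x hx => ?_
    refine (Scheme.mem_basicOpen T'.left _ x hx).1 ?_
    rw [he]
    exact x.2
  refine ⟨N', hpt, ?_⟩
  obtain ⟨l, hl⟩ := (yon S).map_surjective (N.sq.lift ((yon S).map N'.r) ((yon S).map (N'.j ≫ ρ)) (by
    rw [Functor.map_comp, Category.assoc]; rw [N'.sq.w, ha'']))
  have hlr : l ≫ N.r = N'.r := (yon S).map_injective (by rw [Functor.map_comp, hl, N.sq.lift_fst])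
  have hlj : l ≫ N.j = N'.j ≫ ρ := (yon S).map_injective (by rw [Functor.map_comp, hl, N.sq.lift_snd])
  have hcomp : (pb l).comp (algebraMap Γ(N.T.left, ⊤) Γ(N.R.left, ⊤)) =
      (algebraMap Γ(N'.T.left, ⊤) Γ(N'.R.left, ⊤)).comp (pb ρ) := RingHom.ext fun x => by
    show pb l (pb N.j x) = pb N'.j (pb ρ x)
    rw [← pb_comp, ← pb_comp, hlj]
  refine exists_pow (C := Γ(N'.T.left, ⊤)) N'.s (pb N'.r τ) (q.map (pb ρ)) ?_ ?_
  · have h1 := congrArg (pb l) hq
    rw [map_mul, map_one, Polynomial.hom_eval₂, hcomp, ← pb_comp, hlr] at h1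
    rw [Polynomial.eval₂_map, ← h1, hs']
    congr 1
    exact (congrArg (fun φ : _ →+* _ => φ N.s) hcomp).symm
  · rw [Polynomial.coeff_map, hs', show (1 : Γ(N'.T.left, ⊤)) - pb ρ N.s * pb ρ (q.coeff 0) = pb ρ g by simp [g]]
    exact hunit

variable (P)

theorem exists_nbhd (x : Points c.X) (hx : x ∉ Set.range (Points.map P.v)) :
    ∃ N : Nbhd P, Points.ofPt N.a N.u = x := by
  obtain ⟨U, a, ha, ha', hUc⟩ := c.exists_qc_chart
  obtain ⟨g, hg⟩ := (yon S).map_surjective (a ≫ c.f)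
  obtain ⟨u, rfl⟩ := surjective_ofPt ha' x
  haveI := hUc
  obtain ⟨-, hN, hdim⟩ := c.chart_facts ha hg.symm
  haveI := hN
  obtain ⟨hfin, hcl⟩ := P.finite_compl ha hg.symm
  obtain ⟨-, y, hy, hne⟩ := hcl u hx
  let F := (Points.ofPt a ⁻¹' Set.range (Points.map P.v))ᶜ
  have hFc : IsClosed (F \ {u}) := by
    rw [show F \ {u} = ⋃ w ∈ (hfin.subset (t := F \ {u}) Set.sdiff_subset).toFinset, ({w} : Set U.left) by
      ext w; simp]
    exact Set.Finite.isClosed_biUnion (Finset.finite_toSet _) fun w hw => (hcl w ((Set.Finite.mem_toFinset _).1 hw).1).1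
  obtain ⟨_, ⟨W₀, hW, rfl⟩, huW, hWsub⟩ := U.left.isBasis_affineOpens.exists_subset_of_mem_open
    (show u ∈ (F \ {u})ᶜ from fun h => h.2 rfl) hFc.isOpen_compl
  let W : U.left.Opens := W₀
  haveI : IsAffine W.toScheme := hW
  haveI : IsNoetherian W.toScheme :=
    { toIsLocallyNoetherian := isLocallyNoetherian_of_isOpenImmersion W.ι }
  haveI : IsNoetherianRing Γ(W.toScheme, ⊤) :=
    IsLocallyNoetherian.component_noetherian ⟨⊤, isAffineOpen_top W.toScheme⟩
  have hyW : y ∈ W := hy.mem_open W.2 huW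
  let φ : W.toScheme ≃ₜ PrimeSpectrum Γ(W.toScheme, ⊤) := Scheme.homeoOfIso W.toScheme.isoSpec
  have hd : ringKrullDim Γ(W.toScheme, ⊤) ≤ 1 := by
    rw [← PrimeSpectrum.topologicalKrullDim_eq_ringKrullDim]
    refine (φ.isHomeomorph.topologicalKrullDim_eq _).ge.trans ?_
    exact (W.ι.isOpenEmbedding.toIsInducing.topologicalKrullDim_le).trans hdim
  have hmem : ∀ (f : Γ(W.toScheme, ⊤)) (w : W.toScheme), w ∈ W.toScheme.basicOpen f ↔ f ∉ (φ w).asIdeal := fun f w => by
    rw [← Scheme.toSpecΓ_preimage_basicOpen]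
    rfl
  have hlt : φ ⟨y, hyW⟩ < φ ⟨u, huW⟩ := lt_of_le_of_ne
    ((PrimeSpectrum.le_iff_specializes _ _).2 (((subtype_specializes_iff (⟨y, hyW⟩ : W.toScheme) (⟨u, huW⟩ : W.toScheme)).2 hy).map φ.continuous))
    fun h => hne (congrArg Subtype.val (φ.injective h))
  obtain ⟨g', s, hgu, hgs⟩ := exists_cut hd hlt
  let W' := W.toScheme.basicOpen g'
  let T : Over S := Over.mk (W'.ι ≫ W.ι ≫ U.hom)
  let ρ : T ⟶ U := Over.homMk (W'.ι ≫ W.ι) (Category.assoc _ _ _)
  have hρ : RepWith @Etale ((yon S).map ρ) :=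
    (repWith_yon_map_iff _ _).2 (inferInstanceAs (Etale (W'.ι ≫ W.ι)))
  have hinj : ∀ x x' : T.left, ρ.left x = ρ.left x' → x = x' := fun x x' h => Subtype.ext (Subtype.ext h)
  let u' : T.left := ⟨⟨u, huW⟩, (hmem _ _).2 hgu⟩
  refine ⟨{ T := T, a := (yon S).map ρ ≫ a, etale := repWith_comp hρ ha, affine := (isAffineOpen_top W.toScheme).basicOpen g'
            u := u', s := W'.ι.appTop.hom s, mem_basicOpen := fun x => ?_, mem_range := fun x => ?_ }, ?_⟩
  · have he : W'.toScheme.basicOpen (W'.ι.appTop.hom s) = W'.ι ⁻¹ᵁ W.toScheme.basicOpen s :=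
      (Scheme.preimage_basicOpen_top W'.ι s).symm
    show x ∈ W'.toScheme.basicOpen _ ↔ _
    rw [he]
    refine (hmem s (W'.ι x)).trans ((hgs _ ((hmem _ _).1 x.2)).trans ⟨fun h h' => h (h' ▸ rfl), fun h h' => ?_⟩)
    exact h (Subtype.ext (φ.injective h'))
  · rw [ofPt_comp]
    constructor
    · rintro h rfl
      exact hx h
    · intro h
      by_contra hn
      exact hWsub (show ρ.left x ∈ (W : Set U.left) from (W'.ι x).2) ⟨hn, fun h' => h (hinj x u' h')⟩
  · show Points.ofPt ((yon S).map ρ ≫ a) u' = _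
    rw [ofPt_comp]
    rfl

end Groth.Agent.CStk17.CurveScheme
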