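import Groth.Agent.CStk17.CurveScheme.Local
import Groth.Agent.AlgSpDec.OpenGlue
import Groth.Agent.AlgSpDec.LqfQuot
import Groth.Agent.AlgSpDec.LqfSplitZ
import Groth.Agent.AlgStLib.SpProps
import Groth.Agent.S10259

/-!
# Separated one-dimensional spaces of finite type over a field are schemes
-/

set_option autoImplicit false
set_option linter.style.haveILetI false
set_option backward.isDefEq.respectTransparency false
set_option backward.isDefEq.respectTransparency.types false

universe u

open CategoryTheory CategoryTheory.Limits AlgebraicGeometry AlgSp Groth.Agent.AlgSpLib Groth.Agent.AlgSpPts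
open Polynomial (eval₂RingHom)

namespace Groth.Agent.CStk17.CurveScheme

variable {S : Scheme.{u}} {k : Type u} [Field k] {t : Spec (CommRingCat.of k) ⟶ S} {c : Ctx t} {P : Piece c}

theorem mono_v (P : Piece c) : Mono P.v := AlgSpDec.mono_of_openImmersion P.openImm

/-- Functions which are inverse to the same power of `τ` agree over the piece. -/
theorem eq_of_inv {τ : Γ(P.V.left, ⊤)} {m : ℕ} {Z : Over S} {x y : Γ(Z.left, ⊤)} (β : Z ⟶ P.V)
    (hx : x * pb β τ ^ m = 1) (hy : y * pb β τ ^ m = 1) : x = y := by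
  calc x = x * (y * pb β τ ^ m) := by rw [hy, mul_one]
    _ = y * (x * pb β τ ^ m) := by ring
    _ = y := by rw [hx, mul_one]

theorem Nbhd.exists_lift_R (N : Nbhd P) {Z : Over S} (α : Z ⟶ N.T) (h : ∀ z, α.left z ≠ N.u) :
    ∃ l : Z ⟶ N.R, l ≫ N.j = α := by
  have hr : Set.range α.left ⊆ Set.range (N.T.left.basicOpen N.s).ι := by
    rw [Scheme.Opens.range_ι]
    rintro _ ⟨z, rfl⟩
    exact (N.mem_basicOpen _).2 (h z)
  refine ⟨Over.homMk (IsOpenImmersion.lift (N.T.left.basicOpen N.s).ι α.left hr) ?_,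
    Over.OverMorphism.ext (IsOpenImmersion.lift_fac _ _ _)⟩
  show _ ≫ (N.T.left.basicOpen N.s).ι ≫ N.T.hom = _
  rw [IsOpenImmersion.lift_fac_assoc, Over.w α]

/-- A uniform bound for the agreement of functions on the overlap of two neighbourhoods. -/
theorem exists_bound (N N' : Nbhd P) : ∃ B : ℕ, ∀ M, B ≤ M → ∀ (e : Γ(N.T.left, ⊤)) (e' : Γ(N'.T.left, ⊤)),
    (∀ (Z : Over S) (α : Z ⟶ N.T) (β : Z ⟶ N'.T), (yon S).map α ≫ N.a = (yon S).map β ≫ N'.a →
      (∀ z, α.left z ≠ N.u) → pb α (N.s ^ M * e) = pb β (N'.s ^ M * e')) →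
    ∀ (Z : Over S) (α : Z ⟶ N.T) (β : Z ⟶ N'.T), (yon S).map α ≫ N.a = (yon S).map β ≫ N'.a →
      pb α (N.s ^ M * e) = pb β (N'.s ^ M * e') := by
  haveI := N.affine
  haveI := N'.affine
  let W := N.etale.rep.pullback N'.a
  let p : W ⟶ N.T := N.etale.rep.fst' N'.a
  let q : W ⟶ N'.T := N.etale.rep.snd N'.a
  have sq : IsPullback ((yon S).map p) ((yon S).map q) N.a N'.a := N.etale.rep.isPullback' N'.a
  haveI : IsAffine (Over.mk t).left := inferInstanceAs (IsAffine (Spec (CommRingCat.of k)))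
  haveI hq : IsAffineHom q.left := by
    have h : RepWith @IsAffineHom N.a := AlgSpDec.repWith_of_postcomp (g := c.f)
      ⟨c.sep.rep, fun _ _ g' fst snd sq' => by
        have : IsClosedImmersion snd.left := c.sep.property g' fst snd sq'
        show IsAffineHom snd.left
        infer_instance⟩
      (by rw [N.g_spec]; exact (repWith_yon_map_iff _ _).2 (inferInstanceAs (IsAffineHom N.g.left)))
    exact h.property_snd N'.a
  haveI : IsAffine W.left := isAffine_of_isAffineHom q.left
  obtain ⟨-, hWN, -⟩ := c.chart_facts (a := (yon S).map q ≫ N'.a) (g := q ≫ N'.g)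
    (repWith_comp ((repWith_yon_map_iff _ _).2 (N.etale.property_snd N'.a)) N'.etale)
    (by rw [Category.assoc, N'.g_spec, ← Functor.map_comp])
  haveI := hWN
  haveI : IsNoetherianRing Γ(W.left, ⊤) := IsLocallyNoetherian.component_noetherian ⟨⊤, isAffineOpen_top W.left⟩
  let σ := pb p N.s
  let σ' := pb q N'.s
  obtain ⟨L, hL⟩ := exists_torsion_bound Γ(W.left, ⊤) σ
  have hsub : ∀ x, x ∈ W.left.basicOpen σ' → x ∈ W.left.basicOpen σ := fun x hx => by
    have e1 : W.left.basicOpen σ = p.left ⁻¹ᵁ N.T.left.basicOpen N.s := (Scheme.preimage_basicOpen_top p.left N.s).symm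
    have e2 : W.left.basicOpen σ' = q.left ⁻¹ᵁ N'.T.left.basicOpen N'.s :=
      (Scheme.preimage_basicOpen_top q.left N'.s).symm
    rw [e2] at hx
    rw [e1]
    refine (N.mem_basicOpen _).2 ((N.mem_range _).1 ?_)
    rw [show Points.ofPt N.a (p.left x) = Points.ofPt N'.a (q.left x) by rw [← ofPt_comp, sq.w, ofPt_comp]]
    exact (N'.mem_range _).2 ((N'.mem_basicOpen _).1 hx)
  obtain ⟨n, r, hr⟩ : ∃ (n : ℕ) (r : Γ(W.left, ⊤)), σ' ^ n = r * σ := by
    have hle : PrimeSpectrum.basicOpen σ' ≤ PrimeSpectrum.basicOpen σ := fun P hP => by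
      obtain ⟨x, rfl⟩ := (ConcreteCategory.bijective_of_isIso
        ((Scheme.forgetToTop ⋙ forget TopCat).map W.left.toSpecΓ)).2 P
      have := hsub x (by rw [← Scheme.toSpecΓ_preimage_basicOpen]; exact hP)
      rw [← Scheme.toSpecΓ_preimage_basicOpen] at this
      exact this
    obtain ⟨n, hn⟩ := (PrimeSpectrum.basicOpen_le_basicOpen_iff _ _).1 hle
    obtain ⟨r, hr⟩ := Ideal.mem_span_singleton'.1 hn
    exact ⟨n, r, hr.symm⟩
  refine ⟨(n + 1) * L, fun M hM e e' H Z α β hαβ => ?_⟩
  let D := W.left.basicOpen σ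
  let Wo : Over S := Over.mk (D.ι ≫ W.hom)
  let ι : Wo ⟶ W := Over.homMk D.ι rfl
  have hz := H Wo (ι ≫ p) (ι ≫ q) (by simp only [Functor.map_comp, Category.assoc, sq.w]) (fun z hzu => by
    have hm : ι.left z ∈ p.left ⁻¹ᵁ N.T.left.basicOpen N.s := by
      rw [Scheme.preimage_basicOpen_top]; exact z.2
    exact (N.mem_basicOpen _).1 hm hzu)
  rw [pb_comp, pb_comp] at hz
  have hd : pb p (N.s ^ M * e) - pb q (N'.s ^ M * e') = 0 := by
    letI := (W.left.presheaf.map (homOfLE (le_top : D ≤ ⊤)).op).hom.toAlgebra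
    haveI : IsLocalization.Away σ Γ(W.left, D) := (isAffineOpen_top W.left).isLocalization_basicOpen σ
    refine eq_zero_of_away (R' := Γ(W.left, D)) σ hL ?_ ?_
    · obtain ⟨a₁, ha₁⟩ : σ ^ L ∣ pb p (N.s ^ M * e) := by
        rw [map_mul, map_pow]
        exact Dvd.dvd.mul_right (pow_dvd_pow σ (le_trans (Nat.le_mul_of_pos_left L n.succ_pos) hM)) _
      obtain ⟨a₂, ha₂⟩ : σ ^ L ∣ pb q (N'.s ^ M * e') := by
        rw [map_mul, map_pow]
        refine Dvd.dvd.mul_right ((?_ : σ ^ L ∣ σ' ^ (n * L)).trans (pow_dvd_pow σ'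
          (le_trans (Nat.mul_le_mul_right L n.le_succ) hM))) _
        rw [pow_mul, hr, mul_pow]
        exact Dvd.intro_left _ rfl
      exact ⟨a₁ - a₂, by rw [ha₁, ha₂, mul_sub]⟩
    · have h0 : pb ι (pb p (N.s ^ M * e) - pb q (N'.s ^ M * e')) = 0 := by rw [map_sub, hz, sub_self]
      refine (ConcreteCategory.bijective_of_isIso D.topIso.inv).1 ?_
      rw [map_zero, ← h0]
      show D.topIso.inv.hom ((W.left.presheaf.map _).hom _) = D.ι.appTop.hom _
      rw [← CommRingCat.comp_apply]
      congr 2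
      simp [Scheme.Opens.topIso, ← Functor.map_comp]
  obtain ⟨l, hl⟩ := (yon S).map_surjective (sq.lift _ _ hαβ)
  have h1 : l ≫ p = α := (yon S).map_injective (by rw [Functor.map_comp, hl, sq.lift_fst])
  have h2 : l ≫ q = β := (yon S).map_injective (by rw [Functor.map_comp, hl, sq.lift_snd])
  rw [← h1, ← h2, pb_comp, pb_comp, sub_eq_zero.1 hd]

/-- A separated space of finite type and dimension at most one over a field is a scheme. -/
theorem Ctx.exists_iso (c : Ctx t) : ∃ Q : Over S, Nonempty ((yon S).obj Q ≅ c.X) := by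
  classical
  obtain ⟨P⟩ := c.nonempty_piece
  haveI := P.affine
  haveI := mono_v P
  obtain ⟨τ, hτ⟩ := P.exists_tau
  -- the points outside the piece
  have hE : {x : Points c.X | x ∉ Set.range (Points.map P.v)}.Finite := by
    obtain ⟨U, a, ha, ha', hUc⟩ := c.exists_qc_chart
    obtain ⟨g, hg⟩ := (yon S).map_surjective (a ≫ c.f)
    haveI := hUc
    refine ((P.finite_compl ha hg.symm).1.image (Points.ofPt a)).subset fun x hx => ?_
    obtain ⟨u, rfl⟩ := surjective_ofPt ha' x
    exact ⟨u, hx, rfl⟩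
  haveI := hE.to_subtype
  obtain ⟨n₀, ⟨eqv⟩⟩ := Finite.exists_equiv_fin ↥{x : Points c.X | x ∉ Set.range (Points.map P.v)}
  let E := ULift.{u} (Fin n₀)
  let pt : E → Points c.X := fun x => (eqv.symm x.down).1
  have hpt : ∀ x, pt x ∉ Set.range (Points.map P.v) := fun x => (eqv.symm x.down).2
  have hN : ∀ x : E, ∃ N : Nbhd P, Points.ofPt N.a N.u = pt x ∧ Good τ N := fun x => by
    obtain ⟨N, hN⟩ := exists_nbhd P (pt x) (hpt x)
    obtain ⟨N', h1, h2⟩ := N.exists_good hτ
    exact ⟨N', h1.trans hN, h2⟩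
  choose N hNx hgood using hN
  choose z hz hzM using hgood
  choose B hB using fun x y : E => exists_bound (N x) (N y)
  let M := Finset.univ.sup fun xy : E × E => B xy.1 xy.2
  choose m₀ hm₀ using fun x => hzM x M
  let m := Finset.univ.sup m₀ + 1
  choose e he using fun x => hm₀ x m ((Finset.le_sup (Finset.mem_univ x)).trans (Nat.le_succ _))
  -- the part of the piece where the parameter is invertible
  let D₀ := P.V.left.basicOpen τ
  let T₀ : Over S := Over.mk (D₀.ι ≫ P.V.hom)
  let ι₀ : T₀ ⟶ P.V := Over.homMk D₀.ι rfl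
  haveI : IsAffine T₀.left := (isAffineOpen_top P.V.left).basicOpen τ
  obtain ⟨z₀, hz₀⟩ : ∃ z₀, z₀ * pb ι₀ τ = 1 := by
    have hu : IsUnit (pb ι₀ τ) := by
      refine T₀.left.toRingedSpace.isUnit_of_isUnit_germ ⊤ _ fun x hx => (Scheme.mem_basicOpen T₀.left _ x hx).1 ?_
      rw [show T₀.left.basicOpen (pb ι₀ τ) = ι₀.left ⁻¹ᵁ P.V.left.basicOpen τ from
        (Scheme.preimage_basicOpen_top ι₀.left τ).symm]
      exact x.2
    exact hu.exists_left_inv
  -- the charts with their functions
  let T : Option E → Over S := fun i => i.elim T₀ fun x => (N x).T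
  let a : ∀ i, (yon S).obj (T i) ⟶ c.X := fun i =>
    match i with
    | none => (yon S).map ι₀ ≫ P.v
    | some x => (N x).a
  let g : ∀ i, T i ⟶ Over.mk t := fun i =>
    match i with
    | none => ι₀ ≫ P.g
    | some x => (N x).g
  let h : ∀ i, Γ((T i).left, ⊤) := fun i =>
    match i with
    | none => z₀ ^ m
    | some x => (N x).s ^ M * e x
  have ha : ∀ i, RepWith @Etale (a i) := fun i => by
    match i with
    | none => exact repWith_comp ((repWith_yon_map_iff _ _).2 (inferInstanceAs (Etale D₀.ι))) P.etale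
    | some x => exact (N x).etale
  have hg : ∀ i, a i ≫ c.f = (yon S).map (g i) := fun i => by
    match i with
    | none => exact (Category.assoc _ _ _).trans (by rw [P.g_spec, ← Functor.map_comp])
    | some x => exact (N x).g_spec
  have hinv : ∀ (i : Option E) (Z : Over S) (α : Z ⟶ T i) (β : Z ⟶ P.V),
      (yon S).map α ≫ a i = (yon S).map β ≫ P.v → pb α (h i) * pb β τ ^ m = 1 := fun i Z α β hαβ => by
    match i with
    | none =>
      have hβ : α ≫ ι₀ = β := (yon S).map_injective ((cancel_mono P.v).1 (by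
        rw [Functor.map_comp, Category.assoc]; exact hαβ))
      show pb α (z₀ ^ m) * _ = 1
      rw [← hβ, pb_comp, ← map_pow, ← map_mul, ← mul_pow]
      exact (congrArg (fun w => pb α (w ^ m)) hz₀).trans ((congrArg (pb α) (one_pow m)).trans (map_one _))
    | some x =>
      obtain ⟨l, hl⟩ := (yon S).map_surjective ((N x).sq.lift _ _ hαβ.symm)
      have hl₁ : l ≫ (N x).r = β := (yon S).map_injective (by rw [Functor.map_comp, hl, IsPullback.lift_fst])
      have hl₂ : l ≫ (N x).j = α := (yon S).map_injective (by rw [Functor.map_comp, hl, IsPullback.lift_snd])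
      show pb α ((N x).s ^ M * e x) * _ = 1
      rw [← hl₁, ← hl₂, pb_comp, pb_comp, ← map_pow, ← map_mul]
      refine Eq.trans (congrArg (pb l) ?_) (map_one _)
      show pb (N x).j ((N x).s ^ M * e x) * _ = 1
      rw [he, ← mul_pow, hz, one_pow]
  have hagree : ∀ (i j : Option E) (Z : Over S) (α : Z ⟶ T i) (β : Z ⟶ T j),
      (yon S).map α ≫ a i = (yon S).map β ≫ a j → pb α (h i) = pb β (h j) := fun i j Z α β hαβ => by
    match i, j with
    | none, j =>
      refine eq_of_inv (α ≫ ι₀) (hinv none Z α _ (by rw [Functor.map_comp, Category.assoc]))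
        (hinv j Z β _ (hαβ.symm.trans ?_))
      rw [Functor.map_comp, Category.assoc]
    | some x, none =>
      refine eq_of_inv (β ≫ ι₀) (hinv (some x) Z α _ (hαβ.trans ?_))
        (hinv none Z β _ (by rw [Functor.map_comp, Category.assoc]))
      rw [Functor.map_comp, Category.assoc]
    | some x, some y =>
      refine hB x y M (Finset.le_sup (f := fun xy : E × E => B xy.1 xy.2) (Finset.mem_univ (x, y))) (e x) (e y)
        (fun Z' α' β' h' hne => ?_) Z α β hαβ
      obtain ⟨l, hl⟩ := (N x).exists_lift_R α' hne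
      have hk : (yon S).map α' ≫ (N x).a = (yon S).map (l ≫ (N x).r) ≫ P.v := by
        rw [← hl, Functor.map_comp, Functor.map_comp, Category.assoc, Category.assoc, (N x).sq.w]
      exact eq_of_inv (l ≫ (N x).r) (hinv (some x) Z' α' _ hk) (hinv (some y) Z' β' _ (h'.symm.trans hk))
  -- the open subspace covered by the charts
  obtain ⟨X', j, hX', hj, hrange⟩ := AlgSpPts.exists_open_subspace c.isAlgSpace
    (W := ⋃ i, Set.range (Points.ofPt (a i))) (isOpen_iUnion fun i => (isOpenMap_ofPt (ha i)).isOpen_range)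
  haveI : Mono j := AlgSpDec.mono_of_openImmersion hj
  haveI := AlgSpDec.isIso_diagonal_of_mono j
  choose a' ha' using fun i => AlgSpDec.exists_factor_open hj (a i) fun u => by
    rw [hrange]; exact Set.mem_iUnion.2 ⟨i, u, rfl⟩
  have ha'e : ∀ i, RepWith @Etale (a' i) := fun i =>
    AlgSpDec.repWith_of_postcomp (repWith_of_isIso _ _) (by rw [ha']; exact ha i)
  obtain ⟨A, hA⟩ := AlgSpDec.exists_hom_sigma T a'
  have hAr : Representable A := hX'.representable_from_yon _
  have hAe : RepWith @Etale A := AlgSpDec.repWith_etale_sigma hAr fun i => by rw [hA]; exact ha'e i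
  have hinj : Function.Injective (Points.map j) := AlgSpPts.injective_map
    ⟨hj.rep, fun _ _ g fst snd sq => by
      have : IsOpenImmersion snd.left := hj.property g fst snd sq
      exact snd.left.isOpenEmbedding.injective⟩
  have hAs : RepWith @Surjective A := repWith_surjective_of_surjective hAr fun p => by
    have hp : Points.map j p ∈ Set.range (Points.map j) := ⟨p, rfl⟩
    rw [hrange] at hp
    obtain ⟨i, u, hu⟩ := Set.mem_iUnion.1 hp
    refine ⟨Points.ofScheme _ ((AlgSpDec.sigmaι T i).left u), hinj ?_⟩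
    rw [← Points.ofPt_eq_map_ofScheme, ← ofPt_comp, hA, Points.map_ofPt, ha', hu]
  haveI := isLocallySurjective_of_etale_surjective hAe hAs
  -- the function
  obtain ⟨H', hH'⟩ := AlgSpDec.exists_hom_sigma T (F := (yon S).obj (line t))
    fun i => (yon S).map (funHom (g i) (h i))
  obtain ⟨H, rfl⟩ := (yon S).map_surjective H'
  have hH : ∀ i, AlgSpDec.sigmaι T i ≫ H = funHom (g i) (h i) := fun i =>
    (yon S).map_injective (by rw [Functor.map_comp]; exact hH' i)
  let U := AlgSpDec.sigmaOver T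
  let R₂ := hAe.rep.pullback A
  have hker : (yon S).map (hAe.rep.fst' A) ≫ (yon S).map H = (yon S).map (hAe.rep.snd A) ≫ (yon S).map H := by
    let α := hAe.rep.fst' A
    let β := hAe.rep.snd A
    have hαβ : (yon S).map α ≫ A = (yon S).map β ≫ A := (hAe.rep.isPullback' A).w
    let O : Option E × Option E → R₂.left.Opens := fun ij =>
      α.left ⁻¹ᵁ (AlgSpDec.sigmaι T ij.1).left.opensRange ⊓ β.left ⁻¹ᵁ (AlgSpDec.sigmaι T ij.2).left.opensRange
    have hO : TopologicalSpace.IsOpenCover O := top_le_iff.1 fun w _ => by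
      obtain ⟨i, v, hv⟩ := AlgSpDec.exists_sigmaι T (α.left w)
      obtain ⟨i', v', hv'⟩ := AlgSpDec.exists_sigmaι T (β.left w)
      exact TopologicalSpace.Opens.mem_iSup.2 ⟨(i, i'), ⟨v, hv⟩, ⟨v', hv'⟩⟩
    refine AlgSpDec.hom_ext_of_openCover (R₂.left.openCoverOfIsOpenCover O hO) _ _ fun ij => ?_
    let Z : Over S := Over.mk ((O ij).ι ≫ R₂.hom)
    let w : Z ⟶ R₂ := Over.homMk (O ij).ι rfl
    show (yon S).map w ≫ _ = (yon S).map w ≫ _
    have hfac : ∀ (i : Option E) (γ : Z ⟶ U), (∀ x, γ.left x ∈ Set.range (AlgSpDec.sigmaι T i).left) →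
        ∃ γ' : Z ⟶ T i, γ' ≫ AlgSpDec.sigmaι T i = γ := fun i γ hγ =>
      ⟨Over.homMk (IsOpenImmersion.lift (AlgSpDec.sigmaι T i).left γ.left (Set.range_subset_iff.2 hγ)) (by
        rw [← Over.w (AlgSpDec.sigmaι T i), IsOpenImmersion.lift_fac_assoc, Over.w γ]),
        Over.OverMorphism.ext (IsOpenImmersion.lift_fac _ _ _)⟩
    obtain ⟨α', hα'⟩ := hfac ij.1 (w ≫ α) fun x => x.2.1
    obtain ⟨β', hβ'⟩ := hfac ij.2 (w ≫ β) fun x => x.2.2
    rw [← Functor.map_comp, ← Functor.map_comp, ← Functor.map_comp, ← Functor.map_comp, ← Category.assoc,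
      ← Category.assoc]
    show (yon S).map ((w ≫ α) ≫ H) = (yon S).map ((w ≫ β) ≫ H)
    rw [← hα', ← hβ', Category.assoc, Category.assoc, hH, hH, comp_funHom, comp_funHom]
    have hcompat : (yon S).map α' ≫ a ij.1 = (yon S).map β' ≫ a ij.2 := by
      rw [← ha', ← ha', ← Category.assoc, ← Category.assoc]
      congr 1
      rw [← hA, ← hA, ← Functor.map_comp_assoc, ← Functor.map_comp_assoc, hα', hβ', Functor.map_comp,
        Functor.map_comp, Category.assoc, Category.assoc, hαβ]
    have hgg : α' ≫ g ij.1 = β' ≫ g ij.2 := (yon S).map_injective (by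
      rw [Functor.map_comp, Functor.map_comp, ← hg, ← hg, reassoc_of% hcompat])
    rw [hagree _ _ Z α' β' hcompat, hgg]
  obtain ⟨φ, hφ⟩ := AlgSpDec.exists_desc_of_kernelPair (hAe.rep.isPullback' A) ((yon S).map H) hker
  have hproj : φ ≫ (yon S).map (lineProj t) = j ≫ c.f := by
    haveI : Epi A := (Sheaf.isLocallySurjective_iff_epi A).1 inferInstance
    rw [← cancel_epi A, reassoc_of% hφ]
    refine AlgSpDec.hom_ext_sigma T fun i => ?_
    rw [← Functor.map_comp, ← Functor.map_comp, ← Category.assoc, hH, funHom_proj, reassoc_of% (hA i),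
      reassoc_of% (ha' i), hg]
  have hsep : IsSeparatedMor φ := AlgStLib.isSeparatedMor_of_comp (b := (yon S).map (lineProj t)) (by
    rw [hproj]; exact isSeparatedMor_comp (AlgSpDec.isSeparatedMor_of_mono j) c.sep)
  have hlft : ∀ i, LocallyOfFiniteType (g i).left := fun i => (c.chart_facts (ha i) (hg i)).1
  have hP : ∀ i, (@LocallyQuasiFinite ⊓ @LocallyOfFiniteType : MorphismProperty Scheme.{u}) (funHom (g i) (h i)).left := by
    intro i
    haveI := hlft i
    haveI := funHom_lft (g i) (h i)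
    refine ⟨LocallyQuasiFinite.of_finite_preimage_singleton _ fun y => ?_, inferInstance⟩
    haveI := hτ
    have hτfin : ∀ y, ((funHom P.g τ).left ⁻¹' {y}).Finite := fun y => (funHom P.g τ).left.finite_preimage_singleton y
    match i with
    | none =>
      refine finite_preimage_inv (ι₀ ≫ P.g) (τ := pb ι₀ τ) (m := m) (Nat.succ_pos _)
        (by rw [← mul_pow, hz₀, one_pow]) (fun y' => ?_) y
      rw [← comp_funHom]
      refine Set.Finite.subset ((hτfin y').preimage (f := (D₀.ι : D₀.toScheme → P.V.left)) D₀.ι.isOpenEmbedding.injective.injOn) ?_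
      exact fun w hw => hw
    | some x =>
      haveI := (N x).isAffine_R
      haveI : IsAffine (T (some x)).left := (N x).affine
      haveI : Etale (N x).r.left := (N x).etale.property P.v _ _ (N x).sq.flip
      have hR : ((funHom ((N x).j ≫ (N x).g) (pb (N x).j ((N x).s ^ M * e x))).left ⁻¹' {y}).Finite := by
        rw [he x]
        refine finite_preimage_inv _ (τ := pb (N x).r τ) (m := m) (Nat.succ_pos _)
          (by rw [← mul_pow, hz, one_pow]) (fun y' => ?_) y
        rw [← (N x).w, ← comp_funHom]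
        exact (hτfin y').preimage' fun b _ => (N x).r.left.finite_preimage_singleton b
      refine ((Set.finite_singleton (N x).u).union (hR.image (N x).j.left)).subset fun w hw => ?_
      by_cases hwu : w = (N x).u
      · exact Or.inl hwu
      · refine Or.inr ⟨⟨w, ((N x).mem_basicOpen w).2 hwu⟩, ?_, rfl⟩
        rw [← comp_funHom]
        exact hw
  have hloc : LocP (@LocallyQuasiFinite ⊓ @LocallyOfFiniteType) φ := by
    refine locP_of_chart (b := 𝟙 _) (h := H) hAe hAs (repWith_id _ _) (by rw [Category.comp_id]; exact hφ) ?_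
    refine ⟨IsZariskiLocalAtSource.of_openCover (sigmaOpenCover fun i => (T i).left) fun i => ?_,
      IsZariskiLocalAtSource.of_openCover (sigmaOpenCover fun i => (T i).left) fun i => ?_⟩
    · show LocallyQuasiFinite ((AlgSpDec.sigmaι T i).left ≫ H.left)
      rw [← Over.comp_left, hH]
      exact (hP i).1
    · show LocallyOfFiniteType ((AlgSpDec.sigmaι T i).left ≫ H.left)
      rw [← Over.comp_left, hH]
      exact (hP i).2
  obtain ⟨Q, ⟨eQ⟩⟩ := AlgSpOne.QaOpen.exists_iso_yon
    (S10259.result (line t) ⟨X', hX'⟩ (ObjectProperty.homMk φ) hloc hsep)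
  let cov : ULift.{u} Bool → Over S := fun b => bif b.down then P.V else Q
  let cj : ∀ b, (yon S).obj (cov b) ⟶ c.X := fun b =>
    match b with
    | ⟨true⟩ => P.v
    | ⟨false⟩ => eQ.hom ≫ j
  obtain ⟨Q', hQ', -⟩ := AlgSpDec.exists_iso_of_open_cover cov cj (fun b => by
    match b with
    | ⟨true⟩ => exact P.openImm
    | ⟨false⟩ => exact repWith_comp (repWith_of_isIso @IsOpenImmersion eQ.hom) hj) (fun x => by
    by_cases hx : x ∈ Set.range (Points.map P.v)
    · obtain ⟨p, rfl⟩ := hx
      exact ⟨⟨true⟩, Points.toScheme P.V p,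
        (Points.ofPt_eq_map_ofScheme P.v _).trans (congrArg (Points.map P.v) (Points.ofScheme_toScheme P.V p))⟩
    · have hxr : x ∈ Set.range (Points.map j) := by
        rw [hrange]
        exact Set.mem_iUnion.2 ⟨some ⟨eqv ⟨x, hx⟩⟩, _, (hNx _).trans (by simp [pt])⟩
      obtain ⟨p, rfl⟩ := hxr
      refine ⟨⟨false⟩, Points.toScheme Q (Points.map eQ.inv p), ?_⟩
      show Points.ofPt (eQ.hom ≫ j) (Points.toScheme Q _) = _
      rw [Points.ofPt_eq_map_ofScheme, Points.ofScheme_toScheme, ← Points.map_comp, Iso.inv_hom_id_assoc])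
  exact ⟨Q', hQ'⟩

end Groth.Agent.CStk17.CurveScheme
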